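import Cfsg.Agent.Lib.Perm.FixityFour.Outside.Swap
import Cfsg.Agent.S0501

/-!
An involution outside the kernel with a fixed point forces sectional 2-rank at most four.
-/

set_option autoImplicit false
set_option linter.style.haveILetI false

namespace CfsgLib.Perm.FixityFour

open MulAction Subgroup
open scoped Pointwise
open LocalEvenB.SelfCentralEight.Sections (Sec BoundBy)

variable {G Ω : Type*} [Group G] [MulAction G Ω] [Finite G]

/-- An involution normalising an elementary group centralises at least a square root of it. -/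
theorem card_le_sq_fixed {L : Subgroup G} (hL : ∀ a ∈ L, a * a = 1) {t : G} (htt : t * t = 1)
    (hn : ∀ a ∈ L, t * a * t ∈ L) :
    Nat.card L ≤ Nat.card ↥(L ⊓ centralizer ({t} : Set G)) * Nat.card ↥(L ⊓ centralizer ({t} : Set G)) := by
  set C := L ⊓ centralizer ({t} : Set G)
  let f : L → C := fun a => ⟨t * a * t * a, mul_mem (hn a a.2) a.2,
    mem_centralizer_singleton_iff.mpr (by
      calc t * (a : G) * t * a * t = t * a * t * a * t * 1 := by rw [mul_one]
        _ = t * ((a : G) * (t * a * t)) := by group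
        _ = t * ((t * a * t) * (a : G)) := by rw [Rank.comm_of_sq hL a.2 (hn a a.2)]
        _ = t * (t * a * t * a) := rfl)⟩
  let φ : L →* C := MonoidHom.mk' f fun a b => Subtype.ext (by
    show t * ((a : G) * b) * t * ((a : G) * b) = t * a * t * a * (t * b * t * b)
    calc t * ((a : G) * b) * t * ((a : G) * b) = t * a * (t * t) * b * t * ((a : G) * b) := by rw [htt]; group
      _ = t * a * t * ((t * b * t) * a) * b := by group
      _ = t * a * t * (a * (t * b * t)) * b := by rw [Rank.comm_of_sq hL (hn b b.2) a.2]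
      _ = _ := by group)
  rw [← φ.ker.card_mul_index, Subgroup.index_ker]
  refine Nat.mul_le_mul ?_ (card_le_card_group _)
  rw [← Subgroup.card_map_of_injective L.subtype_injective]
  refine card_le_of_le ?_
  rintro _ ⟨b, hb, rfl⟩
  refine ⟨b.2, mem_centralizer_singleton_iff.mpr ?_⟩
  have h1 : t * (b : G) * t * b = 1 := congrArg Subtype.val (MonoidHom.mem_ker.mp hb)
  calc (b : G) * t = (b : G) * t * ((b : G) * b) := by rw [hL _ b.2, mul_one]
    _ = (t * t) * ((b : G) * t * b) * b := by rw [htt]; group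
    _ = t * (t * (b : G) * t * b) * b := by group
    _ = t * b := by rw [h1, mul_one]

variable [Finite Ω] {S : Sylow 2 G} {F : Set Ω} {x : G}

namespace Full

variable (h : Full S F x)

include h

/-- With a normal elementary subgroup of order eight the normaliser is the whole kernel. -/
theorem kernel_le_nz {L : Subgroup G} (hLS : L ≤ (S : Subgroup G)) (hsq : ∀ a ∈ L, a * a = 1)
    (hn : ∀ s ∈ (S : Subgroup G), ∀ a ∈ L, s * a * s⁻¹ ∈ L) (h8 : 8 ≤ Nat.card L) :
    kerPart S F ≤ nz S F x := by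
  haveI : Fact (Nat.Prime 2) := ⟨Nat.prime_two⟩
  by_contra hlt
  obtain ⟨g, E⟩ := h.exists_swap hlt
  have hcomb : ∀ w ∈ kerPart S F, ∀ e ∈ L, w * e * w⁻¹ * e⁻¹ ∈ L ⊓ kerPart S F := fun w hw e he =>
    ⟨L.mul_mem (hn w hw.1 e he) (L.inv_mem he), by
      rw [show w * e * w⁻¹ * e⁻¹ = w * (e * w⁻¹ * e⁻¹) by group]
      exact mul_mem hw (h.ctx.conj_mem (hLS he) (inv_mem hw))⟩
  by_cases h08 : 8 ≤ Nat.card ↥(L ⊓ kerPart S F)
  · obtain ⟨u, hu, huV⟩ : ∃ u ∈ L ⊓ kerPart S F, u ∉ vee S F x := by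
      by_contra! hall
      exact absurd ((card_le_of_le hall).trans_eq h.vee_card) (not_le.mpr (lt_of_lt_of_le (by norm_num) h08))
    refine h.no_involution E (h.mem_nz hu.2 fun k hk => ?_) huV (hsq u hu.1)
    by_cases hk1 : k = 1
    · rw [hk1, ell]; simp
    have huk : u * (k * u⁻¹ * k⁻¹) = ell u k := by rw [ell]; group
    have hmem : ell u k ∈ L ⊓ kerPart S F :=
      huk ▸ ⟨mul_mem hu.1 (hn k hk.1.1 _ (inv_mem hu.1)), mul_mem hu.2 (h.ctx.conj_mem hk.1.1 (inv_mem hu.2))⟩
    refine h.mem_vee_of_comm hk.1 (h.cop_not_kernel hk hk1) hmem.2 ?_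
    have hkinv : k⁻¹ = k := inv_eq_of_mul_eq_one_left (h.sq k hk.1)
    have huinv : u⁻¹ = u := inv_eq_of_mul_eq_one_left (hsq u hu.1)
    have hd : ell u k = u * (k * u * k) := by rw [← huk, huinv, hkinv]
    have hc : k * u * k ∈ L := by have := hn k hk.1.1 u hu.1; rwa [hkinv] at this
    rw [hd]
    calc u * (k * u * k) * k = (k * u * k) * u * k := by rw [Rank.comm_of_sq hsq hu.1 hc]
      _ = k * (u * (k * u * k)) := by group
  have h04 : Nat.card ↥(L ⊓ kerPart S F) ≤ 4 := by
    have hp : IsPGroup 2 ↥(L ⊓ kerPart S F) := S.isPGroup'.to_le (inf_le_left.trans hLS)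
    obtain ⟨j, hj⟩ := hp.exists_card_eq
    rw [hj] at h08 ⊢
    have : j ≤ 2 := by
      by_contra hjlt
      exact h08 ((show (8 : ℕ) = 2 ^ 3 by norm_num) ▸ Nat.pow_le_pow_right (by norm_num) (by omega))
    exact (Nat.pow_le_pow_right (by norm_num) this).trans_eq (by norm_num)
  by_cases hex : ∃ e ∈ L, e ∈ cent S x ∧ e ∉ kerPart S F
  · obtain ⟨e, he, hec, heW⟩ := hex
    let f : (kerPart S F) ⧸ (centralizer ({e} : Set G)).subgroupOf (kerPart S F) → ↥(L ⊓ kerPart S F) :=
      fun q => ⟨(q.out : G) * e * (q.out : G)⁻¹ * e⁻¹, hcomb _ q.out.2 e he⟩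
    have hf : Function.Injective f := by
      intro a b hab
      have h1 : (a.out : G) * e * (a.out : G)⁻¹ = (b.out : G) * e * (b.out : G)⁻¹ :=
        mul_right_cancel (congrArg Subtype.val hab)
      rw [← QuotientGroup.out_eq' a, ← QuotientGroup.out_eq' b, QuotientGroup.eq, mem_subgroupOf,
        mem_centralizer_singleton_iff]
      calc (((a.out)⁻¹ * b.out : kerPart S F) : G) * e
          = (a.out : G)⁻¹ * ((b.out : G) * e * (b.out : G)⁻¹) * b.out := by push_cast; group
        _ = (a.out : G)⁻¹ * ((a.out : G) * e * (a.out : G)⁻¹) * b.out := by rw [h1]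
        _ = e * (((a.out)⁻¹ * b.out : kerPart S F) : G) := by push_cast; group
    have h1 : (centralizer ({e} : Set G)).relIndex (kerPart S F) ≤ 4 :=
      (Nat.card_le_card_of_injective f hf).trans h04
    have h2 : Nat.card ↥(kerPart S F ⊓ centralizer ({e} : Set G)) ≤ 4 := (card_le_of_le fun w (hw : w ∈ kerPart S F ⊓ centralizer ({e} : Set G)) =>
      h.mem_vee_of_comm hec heW hw.1 (mem_centralizer_singleton_iff.mp hw.2)).trans h.vee_card.le
    have h3 := LocalEvenB.SelfCentralEight.Sections.relIndex_mul_card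
      (inf_le_left : kerPart S F ⊓ centralizer ({e} : Set G) ≤ kerPart S F)
    rw [inf_relIndex_left] at h3
    have h16 : Nat.card (kerPart S F) ≤ 16 := h3 ▸ (Nat.mul_le_mul h1 h2).trans (by norm_num)
    exact hlt (Subgroup.eq_of_le_of_card_ge (inf_le_left : nz S F x ≤ kerPart S F)
      (h16.trans (h.sixteen_le_nz E))).ge
  push Not at hex
  -- the centraliser in the kernel lies in `L`
  have hxx := pow_two_eq_one h.outer.order
  have hxinv : x⁻¹ = x := inv_eq_of_mul_eq_one_left hxx
  have hfix := card_le_sq_fixed hsq hxx fun a ha => by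
    have := hn x h.outer.mem a ha
    rwa [hxinv] at this
  have hCV : L ⊓ centralizer ({x} : Set G) ≤ vee S F x := fun c hc =>
    ⟨hex c hc.1 ⟨hLS hc.1, hc.2⟩, hc.2⟩
  have hCeq : L ⊓ centralizer ({x} : Set G) = vee S F x := by
    refine Subgroup.eq_of_le_of_card_ge hCV ?_
    obtain ⟨d, hd⟩ := (Subgroup.card_dvd_of_le hCV)
    rw [h.vee_card] at hd ⊢
    have h3 : 3 ≤ Nat.card ↥(L ⊓ centralizer ({x} : Set G)) := by
      by_contra hlt3
      have := hfix.trans (Nat.mul_le_mul (show Nat.card ↥(L ⊓ centralizer ({x} : Set G)) ≤ 2 by omega)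
        (show Nat.card ↥(L ⊓ centralizer ({x} : Set G)) ≤ 2 by omega))
      omega
    have h4 := card_le_of_le hCV
    rw [h.vee_card] at h4
    interval_cases hh : Nat.card ↥(L ⊓ centralizer ({x} : Set G)) <;> omega
  have hVL : ∀ v ∈ vee S F x, v ∈ L := fun v hv => (hCeq.ge hv).1
  have hL0 : L ⊓ kerPart S F ≤ vee S F x := by
    refine (Subgroup.eq_of_le_of_card_ge (show vee S F x ≤ L ⊓ kerPart S F from fun v hv => ⟨hVL v hv, hv.1⟩) ?_).ge
    rw [h.vee_card]
    exact h04
  obtain ⟨l, hlL, hlW⟩ : ∃ l ∈ L, l ∉ kerPart S F := by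
    by_contra! hall
    rw [inf_eq_left.mpr hall] at h08
    exact h08 h8
  obtain ⟨k₀, hk₀, hw⟩ := h.ctx.decompose h.outer h.cop_card (hLS hlL)
  have hk₀1 : k₀ ≠ 1 := fun e => hlW (by simpa [e] using hw)
  set w := k₀⁻¹ * l with hwdef
  have hwnz : w ∈ nz S F x := by
    refine h.mem_nz hw fun k hk => ?_
    have hkk := h.comm hk.1 hk₀.1
    have e : ell w k = k₀⁻¹ * (l * (k * l⁻¹ * k⁻¹)) * k₀⁻¹⁻¹ := by
      rw [hwdef, ell, inv_inv, mul_inv_rev, inv_inv]
      calc k₀⁻¹ * l * k * (l⁻¹ * k₀) * k⁻¹ = k₀⁻¹ * (l * (k * l⁻¹ * k⁻¹)) * (k * k₀ * k⁻¹) := by group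
        _ = _ := by rw [hkk, mul_inv_cancel_right]
    refine hL0 ⟨?_, ?_⟩
    · rw [e]
      exact hn _ ((S : Subgroup G).inv_mem hk₀.1.1) _ (mul_mem hlL (hn k hk.1.1 _ (inv_mem hlL)))
    · rw [ell, show w * k * w⁻¹ * k⁻¹ = w * (k * w⁻¹ * k⁻¹) by group]
      exact mul_mem hw (h.ctx.conj_mem hk.1.1 (inv_mem hw))
  obtain ⟨k, hk, hv⟩ := h.exists_cc E hwnz
  set c := cc g k with hc
  have hcnz := E.cc_mem k hk
  have hbc : g⁻¹ * c * g * c ∈ vee S F x := by
    have e : g⁻¹ * c * g * c = ell (g * g)⁻¹ k := by rw [hc, cc, ell]; simp [mul_assoc]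
    rw [e]
    exact h.ell_mem (inv_mem E.sq) hk
  have hq : g⁻¹ * w * g * w⁻¹ ∈ vee S F x := by
    set v := c⁻¹ * w with hvdef
    have hbv := mul_mem (h.inv_conj_vee E hv) (inv_mem hv)
    have e : g⁻¹ * w * g * w⁻¹ = (g⁻¹ * c * g * c) * ((c⁻¹ * (g⁻¹ * v * g * v⁻¹)) * c⁻¹) := by
      rw [hvdef]; group
    rw [e]
    refine mul_mem hbc ?_
    rw [h.nz_comm (inv_mem hcnz) hbv, mul_assoc (g⁻¹ * v * g * v⁻¹) c⁻¹ c⁻¹, ← mul_inv_rev c c]
    exact mul_mem hbv (inv_mem (h.sq_mem_vee hcnz))
  have hl : g⁻¹ * l * g * l⁻¹ ∈ vee S F x := by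
    have := hcomb g⁻¹ (inv_mem E.mem) l hlL
    rw [inv_inv] at this
    exact hL0 this
  refine h.cc_not_vee E hk₀ hk₀1 ?_
  have e : cc g k₀ = (g⁻¹ * l * g * l⁻¹) * (k₀ * (g⁻¹ * w * g * w⁻¹)⁻¹ * k₀⁻¹) := by
    rw [hwdef, cc]; group
  rw [e]
  refine mul_mem hl ?_
  rw [h.comm hk₀.1 (vee_le_cent (inv_mem hq)), mul_inv_cancel_right]
  exact inv_mem hq

/-- A kernel normalising the centraliser. -/
theorem sectional_of_le_nz (hle : kerPart S F ≤ nz S F x) :
    Cfsg.SectionalPRankLE 2 4 (S : Subgroup G) := by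
  classical
  haveI : Fact (Nat.Prime 2) := ⟨Nat.prime_two⟩
  have hW16 : Nat.card (kerPart S F) = 16 := le_antisymm ((card_le_of_le hle).trans h.card_nz_le) h.big
  have hS64 : Nat.card (S : Subgroup G) = 64 := by
    have h1 := LocalEvenB.SelfCentralEight.Sections.relIndex_mul_card
      (N := kerPart S F) (K := (S : Subgroup G)) inf_le_left
    rw [h.ctx.index, hW16] at h1
    exact h1.symm
  have hVW : vee S F x ≤ kerPart S F := inf_le_left
  have hidx : (vee S F x).relIndex (kerPart S F) = 4 := by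
    have h1 := LocalEvenB.SelfCentralEight.Sections.relIndex_mul_card hVW
    rw [h.vee_card, hW16] at h1
    omega
  refine LocalEvenB.SelfCentralEight.Sections.sectional_of_boundBy (k := 4) (boundBy_of_inside fun K N hK hKN => ?_)
  by_contra! hbig
  norm_num at hbig
  have hmul := LocalEvenB.SelfCentralEight.Sections.relIndex_mul_card hKN.1
  have hKle := card_le_of_le hK
  rw [hS64] at hKle
  have hrel := LocalEvenB.SelfCentralEight.Sections.relIndex_le_card hKN.1
  obtain ⟨n, hn⟩ : ∃ n, Nat.card K = 2 ^ n := (S.isPGroup'.to_le hK).exists_card_eq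
  have hn56 : n = 5 ∨ n = 6 := by
    have h6 : n ≤ 6 := (Nat.pow_le_pow_iff_right (by norm_num)).mp (hn ▸ hKle.trans_eq (by norm_num : 64 = 2 ^ 6))
    by_contra! hne
    interval_cases n <;> simp_all <;> omega
  have hN1 : 0 < Nat.card N := Nat.card_pos
  rcases hn56 with rfl | rfl
  · -- an elementary subgroup of order 32
    have hNbot : N = ⊥ := by
      refine Subgroup.eq_bot_of_card_eq N ?_
      by_contra hne
      have : N.relIndex K * 2 ≤ N.relIndex K * Nat.card N := Nat.mul_le_mul_left _ (by omega)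
      norm_num at hn
      omega
    have hKsq : ∀ a ∈ K, a * a = 1 := fun a ha => by
      have := hKN.2 a ha
      rwa [hNbot, Subgroup.mem_bot] at this
    have hinf := card_inf_ge (A := kerPart S F) (B := (S : Subgroup G)) inf_le_left hK
    rw [hn, hW16, hS64] at hinf
    obtain ⟨u, hu, huV⟩ : ∃ u ∈ K ⊓ kerPart S F, u ∉ vee S F x := by
      by_contra! hall
      have := (card_le_of_le hall).trans_eq h.vee_card
      omega
    have hunz := hle hu.2
    by_cases hfull : kerPart S F ≤ K
    · -- then an element outside the kernel centralises it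
      obtain ⟨a, haK, haW⟩ : ∃ a ∈ K, a ∉ kerPart S F := by
        by_contra! hall
        have := card_le_of_le (fun a ha => hall a ha : K ≤ kerPart S F)
        rw [hn, hW16] at this
        norm_num at this
      obtain ⟨k, hk, hkw⟩ := h.ctx.decompose h.outer h.cop_card (hK haK)
      have hk1 : k ≠ 1 := fun e => haW (by simpa [e] using hkw)
      have hkK : k ∈ K := by
        have := mul_mem haK (inv_mem (hfull hkw))
        rwa [show a * (k⁻¹ * a)⁻¹ = k by group] at this
      exact huV (h.mem_vee_of_comm hk.1 (h.cop_not_kernel hk hk1) hu.2 (Rank.comm_of_sq hKsq hu.1 hkK))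
    have h8 : Nat.card ↥(K ⊓ kerPart S F) = 8 := by
      obtain ⟨j, hj⟩ : ∃ j, Nat.card ↥(K ⊓ kerPart S F) = 2 ^ j :=
        (S.isPGroup'.to_le (inf_le_left.trans hK)).exists_card_eq
      have hne16 : Nat.card ↥(K ⊓ kerPart S F) ≠ 16 := fun e => hfull
        ((Subgroup.eq_of_le_of_card_ge (inf_le_right : K ⊓ kerPart S F ≤ kerPart S F)
          (by rw [hW16, e])).ge.trans inf_le_left)
      have hle16 := card_le_of_le (inf_le_right : K ⊓ kerPart S F ≤ kerPart S F)
      rw [hW16, hj] at hle16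
      rw [hj] at hinf hne16 ⊢
      have : j ≤ 4 := (Nat.pow_le_pow_iff_right (by norm_num)).mp (hle16.trans_eq (by norm_num : 16 = 2 ^ 4))
      interval_cases j <;> omega
    have hind : (kerPart S F).relIndex K = 4 := by
      have h1 := LocalEvenB.SelfCentralEight.Sections.relIndex_mul_card (inf_le_left : K ⊓ kerPart S F ≤ K)
      rw [inf_relIndex_left, h8, hn] at h1
      omega
    -- every element of the complement is realised in `K`
    have hall : ∀ k ∈ cop Ω S x, ∃ w ∈ kerPart S F, ell u k = ell w u := by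
      intro k hk
      let e := Subgroup.quotientSubgroupOfEmbeddingOfLE (kerPart S F) hK
      obtain ⟨q, hq⟩ := ((Nat.bijective_iff_injective_and_card e).mpr ⟨e.injective, hind.trans h.ctx.index.symm⟩).2
        (QuotientGroup.mk ⟨k, hk.1.1⟩)
      obtain ⟨a, rfl⟩ := QuotientGroup.mk_surjective q
      have h3 : (QuotientGroup.mk (⟨a, hK a.2⟩ : (S : Subgroup G)) : (S : Subgroup G) ⧸ _) =
          QuotientGroup.mk ⟨k, hk.1.1⟩ := hq
      have hwmem : k⁻¹ * (a : G) ∈ kerPart S F := by
        have h4 := inv_mem (mem_subgroupOf.mp (QuotientGroup.eq.mp h3))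
        push_cast at h4
        rwa [mul_inv_rev, inv_inv] at h4
      refine ⟨k⁻¹ * a, hwmem, ?_⟩
      have hcomm := Rank.comm_of_sq hKsq a.2 hu.1
      have hkinv : k⁻¹ = k := inv_eq_of_mul_eq_one_left (h.sq k hk.1)
      have huinv : u⁻¹ = u := inv_eq_of_mul_eq_one_left (hKsq u hu.1)
      have e1 : ell (k⁻¹ * (a : G)) u = k⁻¹ * u * k * u⁻¹ := by
        calc ell (k⁻¹ * (a : G)) u = k⁻¹ * ((a : G) * u) * (a : G)⁻¹ * k * u⁻¹ := by rw [ell]; group
          _ = k⁻¹ * (u * (a : G)) * (a : G)⁻¹ * k * u⁻¹ := by rw [hcomm]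
          _ = _ := by group
      rw [e1, hkinv, huinv]
      have hd := h.sq _ (vee_le_cent (h.ell_mem hunz hk))
      rw [← inv_eq_of_mul_eq_one_left hd, ell, hkinv]
      simp [mul_inv_rev, mul_assoc, hkinv, huinv]
    -- at most two such values
    let W := kerPart S F
    let φ : cop Ω S x → W ⧸ (centralizer ({u} : Set G)).subgroupOf W :=
      fun k => QuotientGroup.mk ⟨(hall k k.2).choose, (hall k k.2).choose_spec.1⟩
    have hφ : Function.Injective φ := by
      intro a b hab
      have h1 := mem_centralizer_singleton_iff.mp (mem_subgroupOf.mp (QuotientGroup.eq.mp hab))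
      have ha := (hall a a.2).choose_spec.2
      have hb := (hall b b.2).choose_spec.2
      set p := (hall a a.2).choose
      set q := (hall b b.2).choose
      have heq : ell p u = ell q u := by
        push_cast at h1
        rw [ell, ell]
        congr 1
        calc p * u * p⁻¹ = p * (u * (p⁻¹ * q)) * q⁻¹ := by group
          _ = p * (p⁻¹ * q * u) * q⁻¹ := by rw [h1]
          _ = q * u * q⁻¹ := by group
      by_contra hne
      refine huV (h.mem_vee_of_ell hunz (mul_mem a.2 b.2) (fun e => hne ?_) ?_)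
      · have e2 : (b : G)⁻¹ = b := inv_eq_of_mul_eq_one_left (h.sq _ b.2.1)
        exact Subtype.ext (by rw [mul_eq_one_iff_eq_inv.mp e, e2])
      · rw [h.ell_mul_right hunz a.2 b.2, ha, hb, heq, ← hb]
        exact h.sq _ (vee_le_cent (h.ell_mem hunz b.2))
    have h4 := Nat.card_le_card_of_injective φ hφ
    rw [h.cop_card] at h4
    have hC : ∃ D : Subgroup G, D ≤ kerPart S F ⊓ centralizer ({u} : Set G) ∧ 5 ≤ Nat.card D := by
      refine ⟨kerPart S F ⊓ centralizer ({u} : Set G), le_rfl, ?_⟩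
      have hVC : vee S F x ≤ kerPart S F ⊓ centralizer ({u} : Set G) := fun v hv =>
        ⟨hv.1, mem_centralizer_singleton_iff.mpr (h.nz_comm hunz hv).symm⟩
      have hne : vee S F x ≠ kerPart S F ⊓ centralizer ({u} : Set G) := fun e =>
        huV (e ▸ ⟨hu.2, mem_centralizer_singleton_iff.mpr rfl⟩)
      have := Set.ncard_lt_ncard (show (vee S F x : Set G) ⊂ (kerPart S F ⊓ centralizer ({u} : Set G) : Subgroup G) from
        (Set.ssubset_iff_subset_ne.mpr ⟨hVC, fun e => hne (SetLike.coe_injective e)⟩)) (Set.toFinite _)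
      rw [← Nat.card_coe_set_eq, ← Nat.card_coe_set_eq] at this
      simp only [SetLike.coe_sort_coe, h.vee_card] at this
      omega
    obtain ⟨D', hD', h5⟩ := hC
    have h6 := LocalEvenB.SelfCentralEight.Sections.relIndex_mul_card
      (inf_le_left : kerPart S F ⊓ centralizer ({u} : Set G) ≤ kerPart S F)
    rw [inf_relIndex_left, hW16] at h6
    have h7 := h5.trans (card_le_of_le hD')
    have h4' : 4 ≤ (centralizer ({u} : Set G)).relIndex (kerPart S F) := h4
    have := Nat.mul_le_mul h4' h7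
    omega
  · -- the whole group
    have hKS : K = (S : Subgroup G) := Subgroup.eq_of_le_of_card_ge hK (by rw [hS64, hn]; norm_num)
    have hN2 : Nat.card N ≤ 2 := by
      by_contra hlt
      have := Nat.mul_le_mul (show 17 ≤ N.relIndex K by omega) (show 3 ≤ Nat.card N by omega)
      rw [hmul, hn] at this
      by_cases h4 : Nat.card N = 3
      · have h3 : (3 : ℕ) ∣ 2 ^ 6 := ⟨N.relIndex K, by rw [← hn, ← hmul, h4, mul_comm]⟩
        norm_num at h3
      · have := Nat.mul_le_mul (show 17 ≤ N.relIndex K by omega) (show 4 ≤ Nat.card N by omega)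
        rw [hmul, hn] at this
        norm_num at this
    obtain ⟨k, hk, hk1⟩ := exists_ne_one_of_two_le (X := cop Ω S x) (by rw [h.cop_card]; norm_num)
    let f : (kerPart S F) ⧸ (vee S F x).subgroupOf (kerPart S F) → N := fun q =>
      ⟨ell q.out k, by
        have := hKN.comm_mem (x := (q.out : G)) (y := k) (hKS ▸ q.out.2.1) (hKS ▸ hk.1.1)
        exact this⟩
    have hf : Function.Injective f := by
      intro a b hab
      rw [← QuotientGroup.out_eq' a, ← QuotientGroup.out_eq' b, QuotientGroup.eq, mem_subgroupOf]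
      push_cast
      refine h.mem_vee_of_ell (hle (mul_mem (inv_mem a.out.2) b.out.2)) hk hk1 ?_
      have hab' : ell (a.out : G) k = ell (b.out : G) k := congrArg Subtype.val hab
      rw [h.ell_mul_left (hle (inv_mem a.out.2)) (hle b.out.2) hk, ← hab',
        ← h.ell_mul_left (hle (inv_mem a.out.2)) (hle a.out.2) hk, inv_mul_cancel, ell]
      group
    have h1 := Nat.card_le_card_of_injective f hf
    change (vee S F x).relIndex (kerPart S F) ≤ Nat.card N at h1
    omega

end Full

/-- An involution outside the kernel with a fixed point. -/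
theorem ModCtx.outside (D : ModCtx S F) (O : Outer S F x) :
    Cfsg.SectionalPRankLE 2 4 (S : Subgroup G) := by
  classical
  haveI : Fact (Nat.Prime 2) := ⟨Nat.prime_two⟩
  rcases D.full_or_small O with hs | ⟨hv, hc⟩
  · exact hs
  rcases D.elementary_or_small O hv hc with hs | hsq
  · exact hs
  by_cases hW8 : Nat.card (kerPart S F) = 8
  · have hS : Nat.card (S : Subgroup G) = 2 ^ (4 + 1) := by
      have h1 := LocalEvenB.SelfCentralEight.Sections.relIndex_mul_card
        (N := kerPart S F) (K := (S : Subgroup G)) inf_le_left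
      rw [D.index, hW8] at h1
      rw [← h1]; norm_num
    refine LocalEvenB.SelfCentralEight.Sections.sectional_of_boundBy (k := 4) (Rank.boundBy_half hS ?_)
    by_contra! hall
    have hsqS : ∀ a ∈ (S : Subgroup G), a * a = 1 := fun a ha => congrArg Subtype.val (hall ⟨a, ha⟩)
    have hle : kerPart S F ≤ vee S F x := fun w hw =>
      ⟨hw, mem_centralizer_singleton_iff.mpr (Rank.comm_of_sq hsqS hw.1 O.mem)⟩
    have := card_le_of_le hle
    omega
  have hbig : 16 ≤ Nat.card (kerPart S F) := by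
    have hp : IsPGroup 2 (kerPart S F) := S.isPGroup'.to_le inf_le_left
    obtain ⟨j, hj⟩ := hp.exists_card_eq
    have h8 := D.eight
    rw [hj] at hW8 h8 ⊢
    have : 4 ≤ j := by
      by_contra hlt
      interval_cases j <;> simp_all
    exact (show (16 : ℕ) = 2 ^ 4 by norm_num) ▸ Nat.pow_le_pow_right (by norm_num) this
  have hF : Full S F x := ⟨D, O, hv, hc, hsq, hbig⟩
  by_cases hsmall : ∀ B : Subgroup (S : Subgroup G), B.Normal → IsMulCommutative B → (∀ b ∈ B, b ^ 2 = 1) →
      Nat.card B ≤ 4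
  · exact Cfsg.Agent.S0501.result S.isPGroup' hsmall
  push Not at hsmall
  obtain ⟨B, hBn, hBc, hB2, hB4⟩ := hsmall
  refine hF.sectional_of_le_nz (hF.kernel_le_nz (L := B.map (S : Subgroup G).subtype) (map_subtype_le B) ?_ ?_ ?_)
  · rintro _ ⟨b, hb, rfl⟩
    have := congrArg Subtype.val (hB2 b hb)
    rwa [pow_two] at this
  · rintro s hs _ ⟨b, hb, rfl⟩
    exact ⟨⟨s, hs⟩ * b * ⟨s, hs⟩⁻¹, hBn.conj_mem b hb _, rfl⟩
  · rw [Subgroup.card_map_of_injective (S : Subgroup G).subtype_injective]
    obtain ⟨j, hj⟩ := (IsPGroup.to_subgroup (S.isPGroup' : IsPGroup 2 (S : Subgroup G)) B).exists_card_eq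
    rw [hj] at hB4 ⊢
    have : 3 ≤ j := by
      by_contra hlt
      interval_cases j <;> omega
    exact (show (8 : ℕ) = 2 ^ 3 by norm_num) ▸ Nat.pow_le_pow_right (by norm_num) this

end CfsgLib.Perm.FixityFour
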