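import Cfsg.Agent.Lib.Perm.FixityFour.ModCtx

/-!
Fixity four, degree four modulo eight, an involution outside the kernel fixing a point: its
centraliser, and the reduction to an elementary centraliser of order sixteen.
-/

set_option autoImplicit false
set_option linter.style.haveILetI false

namespace CfsgLib.Perm.FixityFour

open MulAction Subgroup
open scoped Pointwise
open LocalEvenB.SelfCentralEight.Sections (Sec BoundBy)

variable {G Ω : Type*} [Group G] [MulAction G Ω]

/-- The centraliser in the Sylow subgroup. -/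
def cent (S : Sylow 2 G) (x : G) : Subgroup G := (S : Subgroup G) ⊓ centralizer ({x} : Set G)

/-- The centraliser in the kernel. -/
def vee (S : Sylow 2 G) (F : Set Ω) (x : G) : Subgroup G := kerPart S F ⊓ centralizer ({x} : Set G)

/-- The elements of the centraliser fixing the points of `x`. -/
def cop (Ω : Type*) [MulAction G Ω] (S : Sylow 2 G) (x : G) : Subgroup G :=
  cent S x ⊓ fixingSubgroup G (fixedBy Ω x)

theorem mem_cent_iff {S : Sylow 2 G} {x c : G} : c ∈ cent S x ↔ c ∈ (S : Subgroup G) ∧ c * x = x * c :=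
  ⟨fun h => ⟨h.1, mem_centralizer_singleton_iff.mp h.2⟩, fun h => ⟨h.1, mem_centralizer_singleton_iff.mpr h.2⟩⟩

/-- An involution of the Sylow subgroup fixing a point outside the kernel. -/
structure Outer (S : Sylow 2 G) (F : Set Ω) (x : G) : Prop where
  mem : x ∈ (S : Subgroup G)
  order : orderOf x = 2
  fixes : ∃ a : Ω, x • a = a
  notMem : x ∉ fixingSubgroup G F

variable [Finite G] [Finite Ω] {S : Sylow 2 G} {F : Set Ω} {x : G}

namespace ModCtx

variable (D : ModCtx S F)

include D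

theorem card_fix (O : Outer S F x) : (fixedBy Ω x).ncard = 4 := by
  obtain ⟨a, ha⟩ := O.fixes
  exact D.four.inv x O.order a ha

omit [Finite G] [Finite Ω] in
theorem disjoint_fix (O : Outer S F x) {b : Ω} (hb : b ∈ fixedBy Ω x) : b ∉ F := fun h =>
  O.notMem (D.point b h x O.mem hb)

theorem eq_one_of_kernel (O : Outer S F x) {w : G} (hw : w ∈ fixingSubgroup G F) {b : Ω}
    (hb : b ∈ fixedBy Ω x) (hwb : w • b = b) : w = 1 :=
  eq_one_of_extra D.four.fix D.card (D.disjoint_fix O hb) hwb (mem_kernel_iff.mp hw)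

theorem cop_inf_kernel (O : Outer S F x) {c : G} (hc : c ∈ cop Ω S x) (hw : c ∈ fixingSubgroup G F) :
    c = 1 := by
  obtain ⟨b, hb⟩ := Set.nonempty_of_ncard_ne_zero (s := fixedBy Ω x) (by rw [D.card_fix O]; norm_num)
  exact D.eq_one_of_kernel O hw hb (mem_kernel_iff.mp hc.2 b hb)

theorem card_vee (O : Outer S F x) : Nat.card (vee S F x) ∣ 4 := by
  rw [← D.card_fix O]
  refine card_dvd_of_free _ _ (fun w hw b hb => ?_) fun w hw b hb hwb => D.eq_one_of_kernel O hw.1.2 hb hwb
  have h := mem_stabilizer_iff.mp (mem_stab_of_comm (Ω := Ω) (mem_centralizer_singleton_iff.mp hw.2))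
  rw [← h]
  exact Set.smul_mem_smul_set hb

theorem two_le_vee (O : Outer S F x) : 2 ≤ Nat.card (vee S F x) := by
  haveI : Fact (Nat.Prime 2) := ⟨Nat.prime_two⟩
  haveI : ((kerPart S F).subgroupOf (S : Subgroup G)).Normal :=
    ⟨fun w hw s => mem_subgroupOf.mpr (D.conj_mem s.2 (mem_subgroupOf.mp hw))⟩
  obtain ⟨z, hzW, hz2, hzc⟩ := CfsgLib.TwoGroups.Classify.exists_central_involution
    (S.isPGroup' : IsPGroup 2 (S : Subgroup G)) ((kerPart S F).subgroupOf (S : Subgroup G)) (by
      intro e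
      obtain ⟨w, hw, hw1⟩ := exists_ne_one_of_two_le (X := kerPart S F) (by linarith [D.eight])
      have : (⟨w, hw.1⟩ : (S : Subgroup G)) ∈ (⊥ : Subgroup (S : Subgroup G)) := e ▸ mem_subgroupOf.mpr hw
      exact hw1 (congrArg Subtype.val (Subgroup.mem_bot.mp this)))
  have hz : (z : G) ∈ vee S F x := ⟨mem_subgroupOf.mp hzW, mem_centralizer_singleton_iff.mpr
    (congrArg Subtype.val (mem_center_iff.mp hzc ⟨x, O.mem⟩)).symm⟩
  have : 1 < Nat.card (vee S F x) := by
    refine (Subgroup.one_lt_card_iff_ne_bot _).mpr fun e => ?_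
    rw [e, Subgroup.mem_bot] at hz
    have : z = 1 := Subtype.ext hz
    simp [this] at hz2
  omega

theorem card_cop_le (O : Outer S F x) : Nat.card (cop Ω S x) ≤ 4 := by
  rw [← D.index]
  let f : cop Ω S x → (S : Subgroup G) ⧸ (kerPart S F).subgroupOf (S : Subgroup G) :=
    fun c => QuotientGroup.mk ⟨c, c.2.1.1⟩
  refine Nat.card_le_card_of_injective f fun a b hab => ?_
  have h := mem_subgroupOf.mp (QuotientGroup.eq.mp hab)
  exact Subtype.ext (inv_mul_eq_one.mp (D.cop_inf_kernel O (mul_mem (inv_mem a.2) b.2) h.2))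

/-- A bound on sections of the kernel suffices. -/
theorem sectional_of_kernel (hW : BoundBy (kerPart S F) 4) :
    Cfsg.SectionalPRankLE 2 4 (S : Subgroup G) := by
  refine LocalEvenB.SelfCentralEight.Sections.sectional_of_boundBy (k := 4) ?_
  haveI : ((kerPart S F).subgroupOf (S : Subgroup G)).Normal :=
    ⟨fun w hw s => mem_subgroupOf.mpr (D.conj_mem s.2 (mem_subgroupOf.mp hw))⟩
  exact Rank.boundBy_of_normal ((kerPart S F).subgroupOf (S : Subgroup G)) (a := 4) (b := 4)
    (Rank.boundBy_of_injective (subgroupOfEquivOfLe (inf_le_left : kerPart S F ≤ _)).toMonoidHom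
      (MulEquiv.injective _) hW)
    (Rank.boundBy_of_card_le (D.index.le))

/-- The centraliser in the kernel has order two. -/
theorem sectional_vee_two (O : Outer S F x) (h2 : Nat.card (vee S F x) = 2) :
    Cfsg.SectionalPRankLE 2 4 (S : Subgroup G) := by
  classical
  haveI : Fact (Nat.Prime 2) := ⟨Nat.prime_two⟩
  have hxx := pow_two_eq_one O.order
  have hxinv : x⁻¹ = x := inv_eq_of_mul_eq_one_left hxx
  have hn : ∀ w ∈ kerPart S F, x * w * x ∈ kerPart S F := fun w hw => by
    have := D.conj_mem O.mem hw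
    rwa [hxinv] at this
  let U : Subgroup G :=
    { carrier := {u | u ∈ kerPart S F ∨ x * u ∈ kerPart S F}
      one_mem' := Or.inl (one_mem _)
      mul_mem' := fun {a b} ha hb => by
        rcases ha with ha | ha <;> rcases hb with hb | hb
        · exact Or.inl (mul_mem ha hb)
        · refine Or.inr ?_
          rw [show x * (a * b) = (x * a * x) * (x⁻¹ * b) by group, hxinv]
          exact mul_mem (hn a ha) hb
        · exact Or.inr (by rw [← mul_assoc]; exact mul_mem ha hb)
        · refine Or.inl ?_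
          rw [show a * b = (x⁻¹ * (x * a) * x) * (x⁻¹ * b) by group, hxinv]
          exact mul_mem (hn _ ha) hb
      inv_mem' := fun {a} ha => by
        rcases ha with ha | ha
        · exact Or.inl (inv_mem ha)
        · refine Or.inr ?_
          rw [show x * a⁻¹ = x * (x * a)⁻¹ * x by group]
          exact hn _ (inv_mem ha) }
  have hxU : x ∈ U := Or.inr (by rw [hxx]; exact one_mem _)
  have hUS : U ≤ (S : Subgroup G) := by
    rintro u (hu | hu)
    · exact hu.1
    · have := (S : Subgroup G).mul_mem ((S : Subgroup G).inv_mem O.mem) hu.1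
      rwa [inv_mul_cancel_left] at this
  refine D.sectional_of_kernel (Rank.boundBy_subgroupOf (B := U) (fun w hw => Or.inl hw)
    (LocalEvenB.SelfCentralEight.Sections.boundBy_four (S.isPGroup'.to_le hUS) (a := ⟨x, hxU⟩)
      (by rw [Subgroup.orderOf_mk]; exact O.order) ?_))
  let f : centralizer ({(⟨x, hxU⟩ : U)} : Set U) → vee S F x × Bool := fun u =>
    if h : ((u : U) : G) ∈ kerPart S F then
      (⟨((u : U) : G), h, mem_centralizer_singleton_iff.mpr
        (congrArg Subtype.val (mem_centralizer_singleton_iff.mp u.2))⟩, true)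
    else
      (⟨x * ((u : U) : G), (u : U).2.resolve_left h, mem_centralizer_singleton_iff.mpr (by
        have e : ((u : U) : G) * x = x * ((u : U) : G) :=
          congrArg Subtype.val (mem_centralizer_singleton_iff.mp u.2)
        rw [mul_assoc, e])⟩, false)
  have hf : Function.Injective f := by
    intro a b hab
    apply Subtype.ext; apply Subtype.ext
    by_cases ha : ((a : U) : G) ∈ kerPart S F <;> by_cases hb : ((b : U) : G) ∈ kerPart S F <;>
      simp [f, ha, hb] at hab <;>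
      (have h := congrArg (fun t : vee S F x => (t : G)) hab
       first
        | exact h
        | exact mul_left_cancel (a := x) h
        | exact Subtype.ext h)
  have := Nat.card_le_card_of_injective f hf
  rw [Nat.card_prod, h2, Nat.card_eq_fintype_card (α := Bool), Fintype.card_bool] at this
  exact this

/-- Only `x` fixes its four points in the centraliser. -/
theorem sectional_cop_two (O : Outer S F x) (h2 : Nat.card (cop Ω S x) ≤ 2) :
    Cfsg.SectionalPRankLE 2 4 (S : Subgroup G) := by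
  refine sectional_of_small_kernel S O.mem O.order (D.card_fix O) fun c hc hcx hcK => ?_
  have hx : x ∈ cop Ω S x := ⟨mem_cent_iff.mpr ⟨O.mem, rfl⟩, mem_kernel_iff.mpr fun b hb => hb⟩
  by_contra! hne
  have h3 : ({1, x, c} : Set G).ncard = 3 := Set.ncard_eq_three.mpr
    ⟨_, _, _, Ne.symm (ne_one_of_order_two O.order), Ne.symm hne.1, Ne.symm hne.2, rfl⟩
  have h4 : ({1, x, c} : Set G) ⊆ (cop Ω S x : Set G) := by
    rintro y (rfl | rfl | rfl)
    exacts [one_mem _, hx, ⟨mem_cent_iff.mpr ⟨hc, hcx⟩, hcK⟩]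
  have := Set.ncard_le_ncard h4 (Set.toFinite _)
  rw [h3, ← Nat.card_coe_set_eq] at this
  exact absurd (this.trans h2) (by norm_num)

/-- Both parts of the centraliser have order four. -/
theorem full_or_small (O : Outer S F x) : Cfsg.SectionalPRankLE 2 4 (S : Subgroup G) ∨
    (Nat.card (vee S F x) = 4 ∧ Nat.card (cop Ω S x) = 4) := by
  have hv := D.card_vee O
  have hv2 := D.two_le_vee O
  have hv4 : Nat.card (vee S F x) ≤ 4 := Nat.le_of_dvd (by norm_num) hv
  by_cases h2 : Nat.card (vee S F x) = 2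
  · exact Or.inl (D.sectional_vee_two O h2)
  by_cases hc2 : Nat.card (cop Ω S x) ≤ 2
  · exact Or.inl (D.sectional_cop_two O hc2)
  refine Or.inr ⟨?_, ?_⟩
  · obtain ⟨d, hd⟩ := hv
    interval_cases h : Nat.card (vee S F x) <;> omega
  · have h4 := D.card_cop_le O
    haveI : Fact (Nat.Prime 2) := ⟨Nat.prime_two⟩
    have hp : IsPGroup 2 (cop Ω S x) := S.isPGroup'.to_le (inf_le_left.trans inf_le_left)
    obtain ⟨k, hk⟩ := hp.exists_card_eq
    rw [hk] at hc2 h4 ⊢
    have : k = 2 := by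
      have h1 : k ≤ 2 := (Nat.pow_le_pow_iff_right (by norm_num)).mp (h4.trans_eq (by norm_num : 4 = 2 ^ 2))
      interval_cases k <;> simp_all
    rw [this]; norm_num

section Full

variable (O : Outer S F x) (hv : Nat.card (vee S F x) = 4) (hc : Nat.card (cop Ω S x) = 4)

include O

theorem cop_normal {c k : G} (hcx : c ∈ cent S x) (hk : k ∈ cop Ω S x) : c * k * c⁻¹ ∈ cop Ω S x :=
  ⟨(cent S x).mul_mem ((cent S x).mul_mem hcx hk.1) ((cent S x).inv_mem hcx),
    conj_mem_kernel (mem_stab_of_comm (mem_centralizer_singleton_iff.mp hcx.2)) hk.2⟩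

theorem vee_cop_comm {v k : G} (hv' : v ∈ vee S F x) (hk : k ∈ cop Ω S x) : v * k = k * v := by
  have h1 : v * k * v⁻¹ * k⁻¹ = 1 := D.cop_inf_kernel O
    (mul_mem (D.cop_normal O ⟨hv'.1.1, hv'.2⟩ hk) (inv_mem hk))
    (by rw [show v * k * v⁻¹ * k⁻¹ = v * (k * v⁻¹ * k⁻¹) by group]
        exact mul_mem hv'.1.2 (D.conj_mem hk.1.1 (inv_mem hv'.1)).2)
  rwa [mul_inv_eq_one, mul_inv_eq_iff_eq_mul] at h1

include hc

/-- The Sylow subgroup is the product of the kernel and the points stabiliser in the centraliser. -/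
theorem decompose {s : G} (hs : s ∈ (S : Subgroup G)) : ∃ k ∈ cop Ω S x, k⁻¹ * s ∈ kerPart S F := by
  let f : cop Ω S x → (S : Subgroup G) ⧸ (kerPart S F).subgroupOf (S : Subgroup G) :=
    fun c => QuotientGroup.mk ⟨c, c.2.1.1⟩
  have hf : Function.Injective f := fun a b hab => Subtype.ext (inv_mul_eq_one.mp
    (D.cop_inf_kernel O (mul_mem (inv_mem a.2) b.2) (mem_subgroupOf.mp (QuotientGroup.eq.mp hab)).2))
  obtain ⟨k, hk⟩ := ((Nat.bijective_iff_injective_and_card f).mpr ⟨hf, hc.trans D.index.symm⟩).2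
    (QuotientGroup.mk ⟨s, hs⟩)
  exact ⟨k, k.2, mem_subgroupOf.mp (QuotientGroup.eq.mp hk)⟩

theorem cent_decompose {c : G} (hcx : c ∈ cent S x) :
    ∃ k ∈ cop Ω S x, ∃ v ∈ vee S F x, c = k * v := by
  obtain ⟨k, hk, hw⟩ := D.decompose O hc hcx.1
  exact ⟨k, hk, k⁻¹ * c, ⟨hw, ((cent S x).mul_mem ((cent S x).inv_mem hk.1) hcx).2⟩, by group⟩

include hv

theorem card_cent : Nat.card (cent S x) = 16 := by
  let f : cop Ω S x × vee S F x → cent S x := fun u =>
    ⟨u.1 * u.2, mul_mem u.1.2.1 (show (u.2 : G) ∈ cent S x from ⟨u.2.2.1.1, u.2.2.2⟩)⟩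
  have hf : Function.Bijective f := by
    constructor
    · rintro ⟨a, b⟩ ⟨a', b'⟩ h
      have h' : (a : G) * b = a' * b' := congrArg Subtype.val h
      have he : (a' : G)⁻¹ * a = b' * (b : G)⁻¹ := by
        calc (a' : G)⁻¹ * a = (a' : G)⁻¹ * (a * b) * (b : G)⁻¹ := by group
          _ = _ := by rw [h']; group
      have h1 : (a' : G)⁻¹ * a = 1 := D.cop_inf_kernel O (mul_mem (inv_mem a'.2) a.2)
        (he ▸ mul_mem b'.2.1.2 (inv_mem b.2.1.2))
      have haa : a = a' := Subtype.ext (inv_mul_eq_one.mp h1).symm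
      subst haa
      exact Prod.ext rfl (Subtype.ext (mul_left_cancel h'))
    · rintro ⟨c, hcx⟩
      obtain ⟨k, hk, v, hv', rfl⟩ := D.cent_decompose O hc hcx
      exact ⟨(⟨k, hk⟩, ⟨v, hv'⟩), rfl⟩
  rw [← Nat.card_congr (Equiv.ofBijective f hf), Nat.card_prod, hv, hc]

/-- Either the centraliser has no elementary subgroup of order eight at `x`, or it is elementary. -/
theorem elementary_or_small : Cfsg.SectionalPRankLE 2 4 (S : Subgroup G) ∨ ∀ c ∈ cent S x, c * c = 1 := by
  classical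
  haveI : Fact (Nat.Prime 2) := ⟨Nat.prime_two⟩
  have hx : x ∈ cop Ω S x := ⟨mem_cent_iff.mpr ⟨O.mem, rfl⟩, mem_kernel_iff.mpr fun b hb => hb⟩
  have hx1 := ne_one_of_order_two O.order
  -- elements of a four-group with a square are powers of it
  have hcyc : ∀ X : Subgroup G, Nat.card X = 4 → ∀ k ∈ X, k * k ≠ 1 → ∀ y ∈ X, y * y = 1 →
      y = 1 ∨ y = k * k := by
    intro X hX k hk hkk y hy hyy
    have hk4 : k * k * (k * k) = 1 := by
      have := pow_card_eq_one' (x := (⟨k, hk⟩ : X))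
      rw [hX] at this
      have e : k ^ 4 = 1 := congrArg Subtype.val this
      rw [← e]; simp [pow_succ, mul_assoc]
    by_cases hy1 : y = 1
    · exact Or.inl hy1
    refine Or.inr ?_
    have hk1 : k ≠ 1 := fun e => hkk (by rw [e, mul_one])
    have hyk : y ≠ k := fun e => hkk (e ▸ hyy)
    by_contra hne
    rcases four_elements hX (mul_mem hk hk) hk hkk hk1 (fun e => hk1 (mul_eq_left.mp e)) hk4 hy with e | e | e | e
    · exact hy1 e
    · exact hne e
    · exact hyk e
    · refine hkk ?_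
      rw [e] at hyy
      calc k * k = (k * k) * ((k * k) * (k * k)) := by rw [hk4, mul_one]
        _ = k * k * k * (k * k * k) := by group
        _ = 1 := hyy
  -- images on the two four-sets
  obtain ⟨g, hg⟩ := D.exists_translate (e := 1) (x := x) (by rw [pow_one, pow_two, pow_two_eq_one O.order]) hx1
    O.fixes.choose_spec
  have hVg : ∀ v ∈ vee S F x, g⁻¹ * v * g ∈ stabilizer G F := by
    intro v hv'
    have h := mem_stabilizer_iff.mp (mem_stab_of_comm (Ω := Ω) (mem_centralizer_singleton_iff.mp hv'.2))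
    rw [hg] at h
    rw [mem_stabilizer_iff, mul_smul, mul_smul, h, inv_smul_smul]
  obtain ⟨m, hmF, hm⟩ : ∃ m ∈ stabilizer G F, ∀ v ∈ vee S F x, m * (g⁻¹ * v * g) * m⁻¹ ∈ (S : Subgroup G) := by
    let M := stabilizer G F
    let X : Subgroup M := ((vee S F x).map (MulAut.conj g⁻¹).toMonoidHom).subgroupOf M
    have hX : IsPGroup 2 X := ((S.isPGroup'.to_le
      ((inf_le_left : vee S F x ≤ _).trans inf_le_left)).map _).comap_of_injective M.subtype M.subtype_injective
    obtain ⟨Q, hQ⟩ := hX.exists_le_sylow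
    obtain ⟨m, hm⟩ := MulAction.exists_smul_eq M Q (S.subtype D.le)
    refine ⟨m, m.2, fun v hv' => ?_⟩
    have hmem : (⟨g⁻¹ * v * g, hVg v hv'⟩ : M) ∈ X := mem_subgroupOf.mpr ⟨v, hv', by
      show g⁻¹ * v * g⁻¹⁻¹ = g⁻¹ * v * g
      rw [inv_inv]⟩
    have h1 : MulAut.conj m • (⟨g⁻¹ * v * g, hVg v hv'⟩ : M) ∈ ((m • Q : Sylow 2 M) : Subgroup M) :=
      Subgroup.smul_mem_pointwise_smul _ _ _ (hQ hmem)
    rw [hm] at h1
    exact h1
  have hker : ∀ v ∈ vee S F x, m * (g⁻¹ * v * g) * m⁻¹ ∈ fixingSubgroup G F → v = 1 := by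
    intro v hv' hk
    have h1 := conj_mem_kernel (inv_mem hmF) hk
    rw [show m⁻¹ * (m * (g⁻¹ * v * g) * m⁻¹) * m⁻¹⁻¹ = g⁻¹ * v * g by group] at h1
    obtain ⟨b, hb⟩ := Set.nonempty_of_ncard_ne_zero (s := fixedBy Ω x) (by rw [D.card_fix O]; norm_num)
    refine D.eq_one_of_kernel O hv'.1.2 hb (mem_kernel_iff.mp (mem_kernel_smul_iff.mpr h1) b ?_)
    rw [← hg]; exact hb
  by_cases hKel : ∀ k ∈ cop Ω S x, k * k = 1
  · -- then the centraliser in the kernel is elementary as well
    refine Or.inr ?_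
    have hsq : ∀ s ∈ (S : Subgroup G), s * s ∈ kerPart S F := by
      intro s hs
      obtain ⟨k, hk, hw⟩ := D.decompose O hc hs
      have e : s * s = (k * (k⁻¹ * s) * k⁻¹) * ((k * k) * (k⁻¹ * s)) := by group
      rw [e, hKel k hk, one_mul]
      exact mul_mem (D.conj_mem hk.1.1 hw) hw
    have hVel : ∀ v ∈ vee S F x, v * v = 1 := by
      intro v hv'
      refine hker _ (mul_mem hv' hv') ?_
      rw [show m * (g⁻¹ * (v * v) * g) * m⁻¹ = (m * (g⁻¹ * v * g) * m⁻¹) * (m * (g⁻¹ * v * g) * m⁻¹) by group]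
      exact (hsq _ (hm v hv')).2
    intro c hcx
    obtain ⟨k, hk, v, hv', rfl⟩ := D.cent_decompose O hc hcx
    rw [show k * v * (k * v) = k * (v * k) * v by group, D.vee_cop_comm O hv' hk,
      show k * (k * v) * v = (k * k) * (v * v) by group, hKel k hk, hVel v hv', one_mul]
  -- a cyclic complement forces a cyclic centraliser in the kernel
  simp only [not_forall] at hKel
  obtain ⟨k₀, hk₀, hk₀2⟩ := hKel
  obtain ⟨v₀, hv₀, hv₀2⟩ : ∃ v ∈ vee S F x, v * v ≠ 1 := by
    by_contra! hall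
    have hcls : ∀ v ∈ vee S F x, v ≠ 1 → (k₀ * k₀)⁻¹ * (m * (g⁻¹ * v * g) * m⁻¹) ∈ kerPart S F := by
      intro v hv' hv1
      obtain ⟨k, hk, hw⟩ := D.decompose O hc (hm v hv')
      set s := m * (g⁻¹ * v * g) * m⁻¹ with hs
      have hss : s * s = 1 := by
        rw [hs, show m * (g⁻¹ * v * g) * m⁻¹ * (m * (g⁻¹ * v * g) * m⁻¹) = m * (g⁻¹ * (v * v) * g) * m⁻¹ by group,
          hall v hv']
        group
      have hkk : k * k = 1 := D.cop_inf_kernel O (mul_mem hk hk) (by
        have e : k * k = (s * (k⁻¹ * s)⁻¹ * s⁻¹) * ((s * s) * (k⁻¹ * s)⁻¹) := by group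
        rw [e, hss, one_mul]
        exact mul_mem (D.conj_mem (hm v hv') (inv_mem hw)).2 (inv_mem hw.2))
      rcases hcyc _ hc k₀ hk₀ hk₀2 k hk hkk with e | e
      · refine absurd (hker v hv' ?_) hv1
        rw [e, inv_one, one_mul] at hw
        exact hw.2
      · rw [← e]; exact hw
    haveI := Fintype.ofFinite (vee S F x)
    have h3 : 1 < ((Finset.univ : Finset (vee S F x)).erase 1).card := by
      rw [Finset.card_erase_of_mem (Finset.mem_univ _), Finset.card_univ, ← Nat.card_eq_fintype_card, hv]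
      norm_num
    obtain ⟨p, hp, q, hq, hpq⟩ := Finset.one_lt_card.mp h3
    have hp1 : (p : G) ≠ 1 := fun e => (Finset.mem_erase.mp hp).1 (Subtype.ext e)
    have hq1 : (q : G) ≠ 1 := fun e => (Finset.mem_erase.mp hq).1 (Subtype.ext e)
    have h1 := mul_mem (inv_mem (hcls p p.2 hp1)) (hcls q q.2 hq1)
    refine hpq (Subtype.ext (inv_mul_eq_one.mp (hker _ (mul_mem (inv_mem p.2) q.2) ?_)))
    rw [show m * (g⁻¹ * ((p : G)⁻¹ * q) * g) * m⁻¹ =
      ((k₀ * k₀)⁻¹ * (m * (g⁻¹ * p * g) * m⁻¹))⁻¹ * ((k₀ * k₀)⁻¹ * (m * (g⁻¹ * q * g) * m⁻¹)) by group]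
    exact h1.2
  left
  refine Rank.sectional_of_eight S.isPGroup' (t := ⟨x, O.mem⟩) (by rw [Subgroup.orderOf_mk]; exact O.order)
    fun A hA hA8 htA d _ => ?_
  exfalso
  have hsub : ∀ a ∈ A, (a : G) = 1 ∨ (a : G) = x ∨ (a : G) = v₀ * v₀ ∨ (a : G) = x * (v₀ * v₀) := by
    intro a ha
    have hac : (a : G) ∈ cent S x :=
      mem_cent_iff.mpr ⟨a.2, congrArg Subtype.val (Rank.comm_of_sq hA ha htA)⟩
    obtain ⟨k, hk, v, hv', e⟩ := D.cent_decompose O hc hac
    have h1 : (a : G) * a = 1 := congrArg Subtype.val (hA a ha)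
    rw [e, show k * v * (k * v) = k * (v * k) * v by group, D.vee_cop_comm O hv' hk,
      show k * (k * v) * v = (k * k) * (v * v) by group] at h1
    have hkk : k * k = 1 := D.cop_inf_kernel O (mul_mem hk hk)
      (by rw [mul_eq_one_iff_eq_inv.mp h1]; exact inv_mem (mul_mem hv'.1.2 hv'.1.2))
    have hvv : v * v = 1 := by rwa [hkk, one_mul] at h1
    have hx' : x = k₀ * k₀ := (hcyc _ hc k₀ hk₀ hk₀2 x hx (pow_two_eq_one O.order)).resolve_left hx1
    rcases hcyc _ hc k₀ hk₀ hk₀2 k hk hkk with hk' | hk' <;>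
      rcases hcyc _ hv v₀ hv₀ hv₀2 v hv' hvv with hv'' | hv'' <;> rw [e, hk', hv''] <;> simp [hx']
  have hle : (Subtype.val '' (A : Set (S : Subgroup G))) ⊆ ({1, x, v₀ * v₀, x * (v₀ * v₀)} : Set G) := by
    rintro _ ⟨a, ha, rfl⟩
    simpa using hsub a ha
  have h1 := Set.ncard_le_ncard hle (Set.toFinite _)
  rw [Set.ncard_image_of_injective _ Subtype.val_injective, ← Nat.card_coe_set_eq] at h1
  have h2 : ({1, x, v₀ * v₀, x * (v₀ * v₀)} : Set G).ncard ≤ 4 := by
    refine (Set.ncard_insert_le _ _).trans ?_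
    have := Set.ncard_insert_le x {v₀ * v₀, x * (v₀ * v₀)}
    have := Set.ncard_insert_le (v₀ * v₀) {x * (v₀ * v₀)}
    simp only [Set.ncard_singleton] at this
    omega
  exact absurd (hA8.symm.trans_le (h1.trans h2)) (by norm_num)

end Full

end ModCtx

end CfsgLib.Perm.FixityFour
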