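import Cfsg.Agent.Lib.Perm.FixityFour.Outside.Basic

/-!
The elementary centraliser of order sixteen: all its involutions fix points, and the normaliser of it
in the kernel.
-/

set_option autoImplicit false
set_option linter.style.haveILetI false

namespace CfsgLib.Perm.FixityFour

open MulAction Subgroup
open scoped Pointwise

variable {G Ω : Type*} [Group G] [MulAction G Ω]

/-- The configuration with elementary centraliser of order sixteen. -/
structure Full (S : Sylow 2 G) (F : Set Ω) (x : G) : Prop where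
  ctx : ModCtx S F
  outer : Outer S F x
  vee_card : Nat.card (vee S F x) = 4
  cop_card : Nat.card (cop Ω S x) = 4
  sq : ∀ c ∈ cent S x, c * c = 1
  big : 16 ≤ Nat.card (kerPart S F)

/-- The normaliser of the centraliser in the kernel. -/
def nz (S : Sylow 2 G) (F : Set Ω) (x : G) : Subgroup G :=
  kerPart S F ⊓ normalizer (cent S x : Set G)

/-- The commutator `[w, k]`. -/
def ell (w k : G) : G := w * k * w⁻¹ * k⁻¹

variable {S : Sylow 2 G} {F : Set Ω} {x : G}

theorem vee_le_cent {v : G} (hv : v ∈ vee S F x) : v ∈ cent S x := ⟨hv.1.1, hv.2⟩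

namespace Full

theorem mem_vee (_h : Full S F x) {c : G} (hc : c ∈ cent S x) (hW : c ∈ kerPart S F) : c ∈ vee S F x :=
  ⟨hW, hc.2⟩

variable [Finite G] [Finite Ω] (h : Full S F x)

include h

theorem card_cent : Nat.card (cent S x) = 16 := h.ctx.card_cent h.outer h.vee_card h.cop_card

omit [Finite G] [Finite Ω] in
theorem comm {a b : G} (ha : a ∈ cent S x) (hb : b ∈ cent S x) : a * b = b * a :=
  Rank.comm_of_sq h.sq ha hb

theorem cop_not_kernel {k : G} (hk : k ∈ cop Ω S x) (hk1 : k ≠ 1) : k ∉ kerPart S F := fun hW =>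
  hk1 (h.ctx.cop_inf_kernel h.outer hk hW.2)

/-- Every nontrivial element of the centraliser fixes a point. -/
theorem fix_point {e : G} (he : e ∈ cent S x) (he1 : e ≠ 1) : ∃ b : Ω, e • b = b := by
  classical
  haveI : Fact (Nat.Prime 2) := ⟨Nat.prime_two⟩
  set A := cent S x with hA
  haveI := Fintype.ofFinite (MulAction.orbitRel.Quotient A Ω)
  haveI := Fintype.ofFinite ↥A
  have hA16 : Nat.card A = 16 := h.card_cent
  have hA2 : IsPGroup 2 A := S.isPGroup'.to_le inf_le_left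
  -- stabilisers
  set U : Ω → Subgroup G := fun b => A ⊓ stabilizer G b with hU
  have hUfix : ∀ b, ∀ u ∈ U b, u ≠ 1 → (fixedBy Ω u).ncard = 4 ∧ b ∈ fixedBy Ω u := fun b u hu hu1 =>
    ⟨h.ctx.four.inv u (order_two (h.sq u hu.1) hu1) b (mem_stabilizer_iff.mp hu.2), mem_stabilizer_iff.mp hu.2⟩
  have hUsame : ∀ b, ∀ u ∈ U b, u ≠ 1 → ∀ w ∈ U b, w ≠ 1 → fixedBy Ω u = fixedBy Ω w := fun b u hu hu1 w hw hw1 =>
    h.ctx.uniq (U b) (hA2.to_le inf_le_left) b inf_le_right u hu w hw (order_two (h.sq u hu.1) hu1)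
      (order_two (h.sq w hw.1) hw1)
  have horb : ∀ b : Ω, Nat.card (MulAction.orbit A b) * Nat.card (U b) = 16 := by
    intro b
    have hst : stabilizer A b = (stabilizer G b).subgroupOf A := rfl
    have h1 := LocalEvenB.SelfCentralEight.Sections.relIndex_mul_card (inf_le_left : U b ≤ A)
    rw [hA16, inf_relIndex_left, Subgroup.relIndex, ← hst, MulAction.index_stabilizer, ← Nat.card_coe_set_eq] at h1
    exact h1
  have hU4 : ∀ b, U b ≠ ⊥ → Nat.card (U b) = 4 := by
    intro b hb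
    obtain ⟨u, hu, hu1⟩ : ∃ u ∈ U b, u ≠ 1 := by
      by_contra! hall
      exact hb (eq_bot_iff.mpr fun w hw => Subgroup.mem_bot.mpr (hall w hw))
    obtain ⟨hF4, hbF⟩ := hUfix b u hu hu1
    have hAF : A ≤ stabilizer G (fixedBy Ω u) := fun c hc => mem_stab_of_comm (h.comm hc hu.1)
    have hle : A ⊓ fixingSubgroup G (fixedBy Ω u) = U b := by
      refine le_antisymm (fun c hc => ⟨hc.1, mem_stabilizer_iff.mpr (mem_kernel_iff.mp hc.2 b hbF)⟩) fun c hc => ⟨hc.1, ?_⟩
      refine mem_kernel_iff.mpr fun y hy => ?_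
      by_cases hc1 : c = 1
      · rw [hc1, one_smul]
      · rw [hUsame b u hu hu1 c hc hc1] at hy; exact hy
    have himg : (fixingSubgroup G (fixedBy Ω u)).relIndex A ≤ 4 := by
      have hker : (image hAF).ker = (fixingSubgroup G (fixedBy Ω u)).subgroupOf A := by
        ext y; rw [MonoidHom.mem_ker, image_eq_one_iff, Subgroup.mem_subgroupOf]
      rw [Subgroup.relIndex, ← hker, Subgroup.index_ker]
      refine perm_elementary_le ((Nat.card_coe_set_eq _).trans hF4) _ ?_
      rintro _ ⟨y, rfl⟩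
      rw [← map_mul, show y * y = 1 from Subtype.ext (h.sq y y.2), map_one]
    have h1 := card_eq_relIndex_mul (F := fixedBy Ω u) A
    rw [hle, hA16] at h1
    have hge : 4 ≤ Nat.card (U b) := by
      by_contra hlt
      have := Nat.mul_le_mul himg (show Nat.card (U b) ≤ 3 by omega)
      omega
    refine le_antisymm ?_ hge
    by_cases hin : ∃ v ∈ U b, v ≠ 1 ∧ v ∈ kerPart S F
    · obtain ⟨v, hv, hv1, hvW⟩ := hin
      refine (card_le_of_le (K := vee S F x) fun c (hc : c ∈ A ⊓ stabilizer G b) =>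
        ⟨⟨hc.1.1, ?_⟩, hc.1.2⟩).trans h.vee_card.le
      refine mem_kernel_iff.mpr fun y hy => ?_
      by_cases hc1 : c = 1
      · rw [hc1, one_smul]
      · have h2 := hUsame b v hv hv1 c hc hc1
        rw [h.ctx.fixedBy_eq hvW.2 hv1] at h2
        exact (h2 ▸ hy : y ∈ fixedBy Ω c)
    · let f : U b → (S : Subgroup G) ⧸ (kerPart S F).subgroupOf (S : Subgroup G) :=
        fun c => QuotientGroup.mk ⟨c, c.2.1.1⟩
      refine (Nat.card_le_card_of_injective f fun a c hac => ?_).trans h.ctx.index.le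
      by_contra hne
      exact hin ⟨(a : G)⁻¹ * c, mul_mem (inv_mem a.2) c.2, fun e => hne (Subtype.ext (inv_mul_eq_one.mp e)),
        mem_subgroupOf.mp (QuotientGroup.eq.mp hac)⟩
  -- the orbits with nontrivial stabiliser
  set Q := (Finset.univ : Finset (MulAction.orbitRel.Quotient A Ω)).filter fun q => U q.out ≠ ⊥ with hQ
  have hsum : Nat.card Ω = 4 * Q.card + 16 * ((Finset.univ : Finset (MulAction.orbitRel.Quotient A Ω)).filter
      fun q => ¬ U q.out ≠ ⊥).card := by
    rw [Nat.card_congr (MulAction.selfEquivSigmaOrbits A Ω), Nat.card_sigma,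
      ← Finset.sum_filter_add_sum_filter_not Finset.univ (fun q : MulAction.orbitRel.Quotient A Ω => U q.out ≠ ⊥)]
    have e1 : ∀ q : MulAction.orbitRel.Quotient A Ω, U q.out ≠ ⊥ → Nat.card (MulAction.orbit A q.out) = 4 := by
      intro q hq
      have := horb q.out
      rw [hU4 _ hq] at this
      omega
    have e2 : ∀ q : MulAction.orbitRel.Quotient A Ω, ¬ U q.out ≠ ⊥ → Nat.card (MulAction.orbit A q.out) = 16 := by
      intro q hq
      have := horb q.out
      rw [not_not.mp hq, Subgroup.card_bot, mul_one] at this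
      exact this
    rw [Finset.sum_congr rfl (g := fun _ => 4) fun q hq => e1 q (Finset.mem_filter.mp hq).2,
      Finset.sum_congr rfl (g := fun _ => 16) fun q hq => e2 q (Finset.mem_filter.mp hq).2,
      Finset.sum_const, Finset.sum_const, smul_eq_mul, smul_eq_mul, hQ]
    ring
  have hdeg16 : Nat.card Ω % 16 = 4 := by
    have hd := h.ctx.four.card_kernel_dvd h.ctx.card (W := kerPart S F) inf_le_right
    have hp : IsPGroup 2 (kerPart S F) := S.isPGroup'.to_le inf_le_left
    obtain ⟨j, hj⟩ := hp.exists_card_eq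
    have hb := h.big
    rw [hj] at hd hb
    have hj4 : 4 ≤ j := (Nat.pow_le_pow_iff_right (by norm_num)).mp ((show 2 ^ 4 = 16 by norm_num).trans_le hb)
    have h16 : 16 ∣ Nat.card Ω - 4 := dvd_trans ((show (2 : ℕ) ^ 4 = 16 by norm_num) ▸ Nat.pow_dvd_pow 2 hj4) hd
    have := h.ctx.deg
    omega
  -- the stabilisers of different orbits meet trivially
  have hdisj : ∀ q ∈ Q, ∀ r ∈ Q, ∀ u, u ≠ 1 → u ∈ U q.out → u ∈ U r.out → q = r := by
    intro q hq r hr u hu1 huq hur
    have hq' := (Finset.mem_filter.mp hq).2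
    obtain ⟨hF4, hqF⟩ := hUfix _ u huq hu1
    have hsub : MulAction.orbit A q.out ⊆ fixedBy Ω u := by
      rintro _ ⟨a, rfl⟩
      show u • ((a : G) • q.out) = (a : G) • q.out
      rw [← mul_smul, h.comm huq.1 a.2, mul_smul, hqF]
    have heq := Set.eq_of_subset_of_ncard_le hsub (by
      rw [hF4, ← Nat.card_coe_set_eq]
      have := horb q.out
      rw [hU4 _ hq'] at this
      omega) (Set.toFinite _)
    have hmem : r.out ∈ MulAction.orbit A q.out := heq ▸ (hUfix _ u hur hu1).2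
    rw [← Quotient.out_eq q, ← Quotient.out_eq r]
    exact (Quotient.sound (by exact hmem)).symm
  set P := Q.biUnion fun q => ((Finset.univ : Finset ↥A).filter fun u : ↥A => (u : G) ∈ U q.out).erase 1 with hP
  have hPcard : P.card = 3 * Q.card := by
    rw [hP, Finset.card_biUnion]
    · rw [Finset.sum_congr rfl (g := fun _ => 3), Finset.sum_const, smul_eq_mul, mul_comm]
      intro q hq
      rw [Finset.card_erase_of_mem]
      swap
      · exact Finset.mem_filter.mpr ⟨Finset.mem_univ _, one_mem _⟩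
      have h4 := hU4 _ (Finset.mem_filter.mp hq).2
      rw [← Nat.card_congr (subgroupOfEquivOfLe (inf_le_left : U q.out ≤ A)).toEquiv,
        Nat.card_eq_fintype_card, Fintype.card_subtype] at h4
      have he : ((Finset.univ : Finset ↥A).filter fun u : ↥A => (u : G) ∈ U q.out).card = 4 := by
        rw [← h4]
        congr 1
      omega
    · intro q hq r hr hqr
      rw [Function.onFun, Finset.disjoint_left]
      intro u hu hu'
      obtain ⟨hu1, hu2⟩ := Finset.mem_erase.mp hu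
      obtain ⟨-, hu3⟩ := Finset.mem_erase.mp hu'
      exact hqr (hdisj q hq r hr u (fun e => hu1 (Subtype.ext e)) (Finset.mem_filter.mp hu2).2
        (Finset.mem_filter.mp hu3).2)
  have hPsub : P ⊆ (Finset.univ : Finset ↥A).erase 1 := by
    intro u hu
    obtain ⟨q, -, hu⟩ := Finset.mem_biUnion.mp hu
    exact Finset.mem_erase.mpr ⟨(Finset.mem_erase.mp hu).1, Finset.mem_univ _⟩
  have h15 : ((Finset.univ : Finset ↥A).erase 1).card = 15 := by
    rw [Finset.card_erase_of_mem (Finset.mem_univ _), Finset.card_univ, ← Nat.card_eq_fintype_card, hA16]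
  have hQ5 : Q.card ≤ 5 := by
    have := Finset.card_le_card hPsub
    omega
  have hQ2 : 1 < Q.card := by
    obtain ⟨v, hv, hv1⟩ := exists_ne_one_of_two_le (X := vee S F x) (by rw [h.vee_card]; norm_num)
    obtain ⟨b, hb⟩ := Set.nonempty_of_ncard_ne_zero (s := F) (by rw [h.ctx.card]; norm_num)
    obtain ⟨c, hc⟩ := Set.nonempty_of_ncard_ne_zero (s := fixedBy Ω x) (by rw [h.ctx.card_fix h.outer]; norm_num)
    have hne : ∀ (d : Ω) (u : G), u ∈ A → u • d = d → u ≠ 1 →
        ∃ d' : Ω, (Quotient.mk'' d : MulAction.orbitRel.Quotient A Ω) ∈ Q ∧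
          d' = (Quotient.mk'' d : MulAction.orbitRel.Quotient A Ω).out ∧ u • d' = d' := by
      intro d u hu hud hu1
      obtain ⟨⟨w, hw⟩, hwd⟩ : (Quotient.mk'' d : MulAction.orbitRel.Quotient A Ω).out ∈ MulAction.orbit A d :=
        Quotient.exact (Quotient.out_eq (Quotient.mk'' d : MulAction.orbitRel.Quotient A Ω))
      have hud' : u • (Quotient.mk'' d : MulAction.orbitRel.Quotient A Ω).out =
          (Quotient.mk'' d : MulAction.orbitRel.Quotient A Ω).out := by
        rw [← hwd]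
        show u • (w • d) = w • d
        rw [← mul_smul, h.comm hu hw, mul_smul, hud]
      refine ⟨_, Finset.mem_filter.mpr ⟨Finset.mem_univ _, fun e => hu1 ?_⟩, rfl, hud'⟩
      exact Subgroup.mem_bot.mp (e ▸ (⟨hu, mem_stabilizer_iff.mpr hud'⟩ : u ∈ U _))
    obtain ⟨b', hbQ, hb', hvb⟩ := hne b v (vee_le_cent hv) (mem_kernel_iff.mp hv.1.2 b hb) hv1
    obtain ⟨c', hcQ, hc', hxc⟩ := hne c x (mem_cent_iff.mpr ⟨h.outer.mem, rfl⟩) hc (ne_one_of_order_two h.outer.order)
    refine Finset.one_lt_card.mpr ⟨_, hbQ, _, hcQ, fun e => ?_⟩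
    have hbb : b' = c' := by rw [hb', hc', e]
    have hb'F : b' ∈ F := by
      rw [← h.ctx.fixedBy_eq hv.1.2 hv1]
      exact hvb
    exact h.ctx.disjoint_fix h.outer (hxc : c' ∈ fixedBy Ω x) (hbb ▸ hb'F)
  have hQcard : Q.card = 5 := by omega
  have hPall : P = (Finset.univ : Finset ↥A).erase 1 :=
    Finset.eq_of_subset_of_card_le hPsub (by omega)
  have hmem : (⟨e, he⟩ : ↥A) ∈ P := by
    rw [hPall]
    exact Finset.mem_erase.mpr ⟨fun e' => he1 (congrArg Subtype.val e'), Finset.mem_univ _⟩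
  obtain ⟨q, -, hq⟩ := Finset.mem_biUnion.mp hmem
  exact ⟨_, mem_stabilizer_iff.mp (Finset.mem_filter.mp (Finset.mem_erase.mp hq).2).2.2⟩

/-- The centraliser in the kernel of an element of the centraliser outside the kernel. -/
theorem mem_vee_of_comm {e w : G} (he : e ∈ cent S x) (heW : e ∉ kerPart S F) (hw : w ∈ kerPart S F)
    (hc : w * e = e * w) : w ∈ vee S F x := by
  have he1 : e ≠ 1 := fun e' => heW (e' ▸ one_mem _)
  have O : Outer S F e :=
    ⟨he.1, order_two (h.sq e he) he1, h.fix_point he he1, fun hk => heW ⟨he.1, hk⟩⟩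
  have hle : vee S F x ≤ vee S F e := fun v hv =>
    ⟨hv.1, mem_centralizer_singleton_iff.mpr (h.comm (vee_le_cent hv) he)⟩
  have heq := Subgroup.eq_of_le_of_card_ge hle
    (by rw [h.vee_card]; exact Nat.le_of_dvd (by norm_num) (h.ctx.card_vee O))
  rw [heq]
  exact ⟨hw, mem_centralizer_singleton_iff.mpr hc⟩

/-- The centraliser of a nontrivial element of the complement. -/
theorem mem_cent_of_comm {k c : G} (hk : k ∈ cop Ω S x) (hk1 : k ≠ 1) (hc : c ∈ (S : Subgroup G))
    (he : c * k = k * c) : c ∈ cent S x := by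
  obtain ⟨l, hl, hw⟩ := h.ctx.decompose h.outer h.cop_card hc
  have hwk : l⁻¹ * c * k = k * (l⁻¹ * c) := by
    rw [mul_assoc, he, ← mul_assoc, ← mul_assoc, h.comm ((cent S x).inv_mem hl.1) hk.1]
  have := mul_mem hl.1 (vee_le_cent (h.mem_vee_of_comm hk.1 (h.cop_not_kernel hk hk1) hw hwk))
  rwa [mul_inv_cancel_left] at this

theorem conj_vee {w e : G} (hw : w ∈ kerPart S F) (he : e ∈ cent S x) (heW : e ∉ kerPart S F)
    (hwe : w * e * w⁻¹ ∈ cent S x) {v : G} (hv : v ∈ vee S F x) : w * v * w⁻¹ ∈ vee S F x := by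
  refine h.mem_vee_of_comm hwe (fun h1 => heW ?_) (mul_mem (mul_mem hw hv.1) (inv_mem hw)) ?_
  · have := mul_mem (mul_mem (inv_mem hw) h1) hw
    rwa [show w⁻¹ * (w * e * w⁻¹) * w = e by group] at this
  · rw [show w * v * w⁻¹ * (w * e * w⁻¹) = w * (v * e) * w⁻¹ by group, h.comm (vee_le_cent hv) he]
    group

omit [Finite Ω] in
theorem ell_mem {w k : G} (hw : w ∈ nz S F x) (hk : k ∈ cop Ω S x) : ell w k ∈ vee S F x := by
  refine h.mem_vee (mul_mem ((mem_normalizer_iff.mp hw.2 k).mp hk.1) (inv_mem hk.1)) ?_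
  show w * k * w⁻¹ * k⁻¹ ∈ kerPart S F
  rw [show w * k * w⁻¹ * k⁻¹ = w * (k * w⁻¹ * k⁻¹) by group]
  exact mul_mem hw.1 (h.ctx.conj_mem hk.1.1 (inv_mem hw.1))

/-- Membership in the normaliser. -/
theorem mem_nz {w : G} (hw : w ∈ kerPart S F) (hk : ∀ k ∈ cop Ω S x, ell w k ∈ vee S F x) : w ∈ nz S F x := by
  obtain ⟨k₀, hk₀, hk₀1⟩ := exists_ne_one_of_two_le (X := cop Ω S x) (by rw [h.cop_card]; norm_num)
  have hkk : ∀ k ∈ cop Ω S x, w * k * w⁻¹ ∈ cent S x := fun k hk' => by
    have := mul_mem (vee_le_cent (hk k hk')) hk'.1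
    rwa [ell, inv_mul_cancel_right] at this
  refine ⟨hw, Subgroup.mem_normalizer_iff_map_conj_eq.mpr (Subgroup.eq_of_le_of_card_ge ?_ ?_)⟩
  · rintro _ ⟨c, hc, rfl⟩
    obtain ⟨k, hk', v, hv, rfl⟩ := h.ctx.cent_decompose h.outer h.cop_card hc
    show w * (k * v) * w⁻¹ ∈ cent S x
    rw [show w * (k * v) * w⁻¹ = (w * k * w⁻¹) * (w * v * w⁻¹) by group]
    exact mul_mem (hkk k hk') (vee_le_cent
      (h.conj_vee hw hk₀.1 (h.cop_not_kernel hk₀ hk₀1) (hkk k₀ hk₀) hv))
  · exact (Subgroup.card_map_of_injective (MulAut.conj w).injective).ge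

omit [Finite G] [Finite Ω] in
theorem vee_le_nz {v : G} (hv : v ∈ vee S F x) : v ∈ nz S F x :=
  ⟨hv.1, Subgroup.le_normalizer (vee_le_cent hv)⟩

/-- The normaliser centralises the centraliser in the kernel. -/
theorem nz_comm {w v : G} (hw : w ∈ nz S F x) (hv : v ∈ vee S F x) : w * v = v * w := by
  by_contra hne
  obtain ⟨k₀, hk₀, hk₀1⟩ := exists_ne_one_of_two_le (X := cop Ω S x) (by rw [h.cop_card]; norm_num)
  have hwv : w * v * w⁻¹ ∈ vee S F x := h.conj_vee hw.1 hk₀.1 (h.cop_not_kernel hk₀ hk₀1)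
    ((mem_normalizer_iff.mp hw.2 k₀).mp hk₀.1) hv
  by_cases hex : ∃ k ∈ cop Ω S x, k ≠ 1 ∧ ell w k = 1
  · obtain ⟨k, hk, hk1, hl⟩ := hex
    have hwk : w * k = k * w := by
      have h1 := mul_inv_eq_one.mp hl
      exact mul_inv_eq_iff_eq_mul.mp h1
    exact hne (h.comm (vee_le_cent (h.mem_vee_of_comm hk.1 (h.cop_not_kernel hk hk1) hw.1 hwk))
      (vee_le_cent hv))
  push Not at hex
  let L : cop Ω S x → vee S F x := fun k => ⟨ell w k, h.ell_mem hw k.2⟩
  have hL : Function.Injective L := by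
    intro a b hab
    by_contra hab'
    have e : ell w a = ell w b := congrArg Subtype.val hab
    refine hex _ (mul_mem (inv_mem a.2) b.2) (fun e' => hab' (Subtype.ext (inv_mul_eq_one.mp e'))) ?_
    have ha : w * (a : G) * w⁻¹ = ell w a * a := by rw [ell]; group
    have hb : w * (b : G) * w⁻¹ = ell w b * b := by rw [ell]; group
    show w * ((a : G)⁻¹ * b) * w⁻¹ * ((a : G)⁻¹ * b)⁻¹ = 1
    rw [show w * ((a : G)⁻¹ * b) * w⁻¹ = (w * (a : G) * w⁻¹)⁻¹ * (w * (b : G) * w⁻¹) by group, ha, hb, e]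
    group
  obtain ⟨⟨k, hk⟩, hLk⟩ := ((Nat.bijective_iff_injective_and_card L).mpr
    ⟨hL, h.cop_card.trans h.vee_card.symm⟩).2 ⟨(w * v * w⁻¹)⁻¹ * v, mul_mem (inv_mem hwv) hv⟩
  have hl : ell w k = (w * v * w⁻¹)⁻¹ * v := congrArg Subtype.val hLk
  have hk1 : k ≠ 1 := by
    intro e
    rw [e, ell] at hl
    simp only [mul_one, mul_inv_cancel, inv_one] at hl
    exact hne (mul_inv_eq_iff_eq_mul.mp (inv_mul_eq_one.mp hl.symm))
  have hfix : w * (v * k) = v * k * w := by
    have hwk : w * k * w⁻¹ = ell w k * k := by rw [ell]; group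
    rw [← mul_inv_eq_iff_eq_mul, show w * (v * k) * w⁻¹ = (w * v * w⁻¹) * (w * k * w⁻¹) by group, hwk, hl]
    group
  refine hne (h.comm (vee_le_cent (h.mem_vee_of_comm (mul_mem (vee_le_cent hv) hk.1) (fun e => ?_) hw.1 hfix))
    (vee_le_cent hv))
  exact h.cop_not_kernel hk hk1 (by
    have := (kerPart S F).mul_mem ((kerPart S F).inv_mem hv.1) e
    rwa [inv_mul_cancel_left] at this)

theorem ell_mul_left {w₁ w₂ k : G} (hw₁ : w₁ ∈ nz S F x) (hw₂ : w₂ ∈ nz S F x) (hk : k ∈ cop Ω S x) :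
    ell (w₁ * w₂) k = ell w₁ k * ell w₂ k := by
  have e : ell (w₁ * w₂) k = (w₁ * ell w₂ k * w₁⁻¹) * ell w₁ k := by rw [ell, ell, ell]; group
  rw [e, h.nz_comm hw₁ (h.ell_mem hw₂ hk), mul_inv_cancel_right,
    h.comm (vee_le_cent (h.ell_mem hw₂ hk)) (vee_le_cent (h.ell_mem hw₁ hk))]

theorem ell_mul_right {w k l : G} (hw : w ∈ nz S F x) (hk : k ∈ cop Ω S x) (hl : l ∈ cop Ω S x) :
    ell w (k * l) = ell w k * ell w l := by
  have e : ell w (k * l) = ell w k * (k * ell w l * k⁻¹) := by rw [ell, ell, ell]; group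
  rw [e, h.comm hk.1 (vee_le_cent (h.ell_mem hw hl)), mul_inv_cancel_right]

theorem ell_vee {v k : G} (hv : v ∈ vee S F x) (hk : k ∈ cop Ω S x) : ell v k = 1 := by
  rw [ell, h.comm (vee_le_cent hv) hk.1]; group

theorem mem_vee_of_ell {w k : G} (hw : w ∈ nz S F x) (hk : k ∈ cop Ω S x) (hk1 : k ≠ 1)
    (he : ell w k = 1) : w ∈ vee S F x :=
  h.mem_vee_of_comm hk.1 (h.cop_not_kernel hk hk1) hw.1 (mul_inv_eq_iff_eq_mul.mp (mul_inv_eq_one.mp he))

theorem sq_mem_vee {w : G} (hw : w ∈ nz S F x) : w * w ∈ vee S F x := by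
  obtain ⟨k, hk, hk1⟩ := exists_ne_one_of_two_le (X := cop Ω S x) (by rw [h.cop_card]; norm_num)
  refine h.mem_vee_of_ell (mul_mem hw hw) hk hk1 ?_
  rw [h.ell_mul_left hw hw hk]
  exact h.sq _ (vee_le_cent (h.ell_mem hw hk))

theorem card_nz_le : Nat.card (nz S F x) ≤ 16 := by
  obtain ⟨k, hk, hk1⟩ := exists_ne_one_of_two_le (X := cop Ω S x) (by rw [h.cop_card]; norm_num)
  let f : (nz S F x) ⧸ (vee S F x).subgroupOf (nz S F x) → vee S F x :=
    fun q => ⟨ell q.out k, h.ell_mem q.out.2 hk⟩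
  have hf : Function.Injective f := by
    intro a b hab
    rw [← QuotientGroup.out_eq' a, ← QuotientGroup.out_eq' b, QuotientGroup.eq, mem_subgroupOf]
    push_cast
    refine h.mem_vee_of_ell (mul_mem (inv_mem a.out.2) b.out.2) hk hk1 ?_
    have hab' : ell (a.out : G) k = ell (b.out : G) k := congrArg Subtype.val hab
    rw [h.ell_mul_left (inv_mem a.out.2) b.out.2 hk, ← hab',
      ← h.ell_mul_left (inv_mem a.out.2) a.out.2 hk, inv_mul_cancel, ell]
    group
  have h1 := LocalEvenB.SelfCentralEight.Sections.relIndex_mul_card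
    (show vee S F x ≤ nz S F x from fun v hv => h.vee_le_nz hv)
  have h2 : (vee S F x).relIndex (nz S F x) ≤ 4 := (Nat.card_le_card_of_injective f hf).trans h.vee_card.le
  rw [h.vee_card] at h1
  omega

end Full

end CfsgLib.Perm.FixityFour
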