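import Cfsg.Agent.Lib.Perm.FixityFour.Outside.Norm

/-!
If the normaliser of the centraliser is not the whole kernel, an element of the kernel permutes the
conjugates of the centraliser and makes the normaliser free of new involutions.
-/

set_option autoImplicit false
set_option linter.style.haveILetI false

namespace CfsgLib.Perm.FixityFour

open MulAction Subgroup
open scoped Pointwise

variable {G Ω : Type*} [Group G] [MulAction G Ω]

/-- The cocycle of `g`. -/
def cc (g k : G) : G := g⁻¹ * k * g * k⁻¹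

/-- An element of the kernel just outside the normaliser. -/
structure Swap (S : Sylow 2 G) (F : Set Ω) (x g : G) : Prop where
  mem : g ∈ kerPart S F
  notMem : g ∉ nz S F x
  sq : g * g ∈ nz S F x
  norm : ∀ w, (w ∈ nz S F x ↔ g * w * g⁻¹ ∈ nz S F x)
  cc_mem : ∀ k ∈ cop Ω S x, cc g k ∈ nz S F x

namespace Full

variable [Finite G] [Finite Ω] {S : Sylow 2 G} {F : Set Ω} {x : G} (h : Full S F x)

include h

theorem kernel_conj_cop {k w : G} (hk : k ∈ cop Ω S x) (hw : w ∈ nz S F x) : k * w * k⁻¹ ∈ nz S F x :=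
  ⟨h.ctx.conj_mem hk.1.1 hw.1,
    (normalizer (cent S x : Set G)).mul_mem ((normalizer (cent S x : Set G)).mul_mem (Subgroup.le_normalizer hk.1) hw.2)
      ((normalizer (cent S x : Set G)).inv_mem (Subgroup.le_normalizer hk.1))⟩

theorem exists_swap (hlt : ¬ kerPart S F ≤ nz S F x) : ∃ g, Swap S F x g := by
  classical
  haveI : Fact (Nat.Prime 2) := ⟨Nat.prime_two⟩
  let Z : Subgroup G :=
    { carrier := {s | ∃ k ∈ cop Ω S x, k⁻¹ * s ∈ nz S F x}
      one_mem' := ⟨1, one_mem _, by simp⟩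
      mul_mem' := fun {a b} ⟨k, hk, ha⟩ ⟨l, hl, hb⟩ => ⟨k * l, mul_mem hk hl, by
        rw [show (k * l)⁻¹ * (a * b) = (l⁻¹ * (k⁻¹ * a) * l⁻¹⁻¹) * (l⁻¹ * b) by group]
        exact mul_mem (h.kernel_conj_cop (inv_mem hl) ha) hb⟩
      inv_mem' := fun {a} ⟨k, hk, ha⟩ => ⟨k⁻¹, inv_mem hk, by
        rw [show k⁻¹⁻¹ * a⁻¹ = k * (k⁻¹ * a)⁻¹ * k⁻¹ by group]
        exact h.kernel_conj_cop hk (inv_mem ha)⟩ }
  have hZS : Z ≤ (S : Subgroup G) := by
    rintro s ⟨k, hk, hs⟩
    have := (S : Subgroup G).mul_mem hk.1.1 hs.1.1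
    rwa [mul_inv_cancel_left] at this
  have hZker : ∀ z ∈ Z, z ∈ kerPart S F → z ∈ nz S F x := by
    rintro z ⟨k, hk, hs⟩ hz
    have hk1 : k = 1 := h.ctx.cop_inf_kernel h.outer hk (by
      have := (fixingSubgroup G F).mul_mem hz.2 ((fixingSubgroup G F).inv_mem hs.1.2)
      rwa [show z * (k⁻¹ * z)⁻¹ = k by group] at this)
    simpa [hk1] using hs
  have hnot : ¬ (S : Subgroup G) ≤ Z := fun hle => hlt fun w hw => hZker w (hle hw.1) hw
  obtain ⟨s, hsS, hsZ, hsn⟩ := exists_normalizer_gt S hZS hnot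
  obtain ⟨k, hk, hw⟩ := h.ctx.decompose h.outer h.cop_card hsS
  have hkZ : k ∈ Z := ⟨k, hk, by simp⟩
  set w := k⁻¹ * s with hwdef
  have hwnz : w ∉ nz S F x := fun hc => hsZ ⟨k, hk, hc⟩
  have hwn : w ∈ normalizer (Z : Set G) :=
    mul_mem (inv_mem (Subgroup.le_normalizer hkZ)) (mem_normalizer_iff.mpr hsn)
  obtain ⟨e, he⟩ := exists_pow_two_pow S hw.1
  have hex : ∃ i, w ^ 2 ^ i ∈ nz S F x := ⟨e, by rw [he]; exact one_mem _⟩
  have h0 : Nat.find hex ≠ 0 := fun e0 => by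
    have := Nat.find_spec hex
    rw [e0, pow_zero, pow_one] at this
    exact hwnz this
  obtain ⟨i, hi⟩ := Nat.exists_eq_succ_of_ne_zero h0
  set g := w ^ 2 ^ i with hg
  have hgW : g ∈ kerPart S F := pow_mem hw _
  have hgn : g ∈ normalizer (Z : Set G) := pow_mem hwn _
  have hgg : g * g ∈ nz S F x := by
    have := Nat.find_spec hex
    rw [hi, pow_succ, pow_mul, pow_two] at this
    exact this
  have hnzZ : ∀ v ∈ nz S F x, v ∈ Z := fun v hv => ⟨1, one_mem _, by simpa using hv⟩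
  refine ⟨g, hgW, Nat.find_min hex (hi ▸ Nat.lt_succ_self i), hgg, fun v => ⟨fun hv => ?_, fun hv => ?_⟩,
    fun l hl => ?_⟩
  · exact hZker _ ((mem_normalizer_iff.mp hgn v).mp (hnzZ v hv))
      (mul_mem (mul_mem hgW hv.1) (inv_mem hgW))
  · refine hZker v ((mem_normalizer_iff.mp hgn v).mpr (hnzZ _ hv)) ?_
    have := mul_mem (mul_mem (inv_mem hgW) hv.1) hgW
    rwa [show g⁻¹ * (g * v * g⁻¹) * g = v by group] at this
  · have hlZ : l ∈ Z := ⟨l, hl, by simp⟩
    refine hZker _ (mul_mem ?_ (inv_mem hlZ)) ?_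
    · have := (mem_normalizer_iff.mp (inv_mem hgn) l).mp hlZ
      rwa [inv_inv] at this
    · rw [show cc g l = g⁻¹ * (l * g * l⁻¹) by rw [cc]; group]
      exact mul_mem (inv_mem hgW) (h.ctx.conj_mem hl.1.1 hgW)

variable {g : G} (E : Swap S F x g)

include E

omit h [Finite G] [Finite Ω] in
theorem inv_conj_nz {w : G} (hw : w ∈ nz S F x) : g⁻¹ * w * g ∈ nz S F x :=
  (E.norm _).mpr (by rw [show g * (g⁻¹ * w * g) * g⁻¹ = w by group]; exact hw)

theorem inv_conj_vee {v : G} (hv : v ∈ vee S F x) : g⁻¹ * v * g ∈ vee S F x := by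
  obtain ⟨k, hk, hk1⟩ := exists_ne_one_of_two_le (X := cop Ω S x) (by rw [h.cop_card]; norm_num)
  obtain ⟨u, hu⟩ : ∃ u, u = g⁻¹ * v * g := ⟨_, rfl⟩
  rw [← hu]
  have hunz : u ∈ nz S F x := hu ▸ inv_conj_nz E (h.vee_le_nz hv)
  have hcent : ∀ w ∈ nz S F x, w * u = u * w := by
    intro w hw
    have := h.nz_comm ((E.norm w).mp hw) hv
    calc w * u = g⁻¹ * ((g * w * g⁻¹) * v) * g := by rw [hu]; group
      _ = g⁻¹ * (v * (g * w * g⁻¹)) * g := by rw [this]
      _ = u * w := by rw [hu]; group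
  have h1 : u * (g⁻¹ * k * g) = g⁻¹ * k * g * u := by
    calc u * (g⁻¹ * k * g) = g⁻¹ * (v * k) * g := by rw [hu]; group
      _ = g⁻¹ * (k * v) * g := by rw [h.comm (vee_le_cent hv) hk.1]
      _ = _ := by rw [hu]; group
  have h2 : g⁻¹ * k * g = cc g k * k := by rw [cc]; group
  rw [h2, ← mul_assoc, ← hcent _ (E.cc_mem k hk), mul_assoc, mul_assoc] at h1
  exact h.mem_vee_of_comm hk.1 (h.cop_not_kernel hk hk1) hunz.1 (mul_left_cancel h1)

theorem cc_mul {k l : G} (hk : k ∈ cop Ω S x) (hl : l ∈ cop Ω S x) :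
    (cc g k * cc g l)⁻¹ * cc g (k * l) ∈ vee S F x := by
  have e : (cc g k * cc g l)⁻¹ * cc g (k * l) = (ell (cc g l)⁻¹ k) := by
    rw [cc, cc, cc, ell]; group
  rw [e]
  exact h.ell_mem (inv_mem (E.cc_mem l hl)) hk

theorem cc_sq {k : G} (hk : k ∈ cop Ω S x) : cc g k * cc g k = ell (cc g k) k := by
  have hkk := h.sq k hk.1
  have hkinv : k⁻¹ = k := inv_eq_of_mul_eq_one_left hkk
  have hinv : (cc g k)⁻¹ = k * cc g k * k⁻¹ := by
    rw [cc, hkinv]
    have hkg : g⁻¹ * k * g * (g⁻¹ * k * g) = 1 := by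
      rw [show g⁻¹ * k * g * (g⁻¹ * k * g) = g⁻¹ * (k * k) * g by group, hkk]; group
    calc (g⁻¹ * k * g * k)⁻¹ = k⁻¹ * (g⁻¹ * k * g)⁻¹ := by group
      _ = k * (g⁻¹ * k * g) := by rw [hkinv, inv_eq_of_mul_eq_one_left hkg]
      _ = k * (g⁻¹ * k * g) * (k * k) := by rw [hkk, mul_one]
      _ = _ := by group
  rw [show ell (cc g k) k = cc g k * (k * cc g k * k⁻¹)⁻¹ by rw [ell]; group, ← hinv, inv_inv]

theorem cc_not_vee {k : G} (hk : k ∈ cop Ω S x) (hk1 : k ≠ 1) : cc g k ∉ vee S F x := by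
  intro hk0
  by_cases hall : ∀ l ∈ cop Ω S x, cc g l ∈ vee S F x
  · apply E.notMem
    have hg' : g⁻¹ ∈ nz S F x := by
      refine h.mem_nz (inv_mem E.mem) fun l hl => ?_
      rw [ell, inv_inv]
      exact hall l hl
    simpa using inv_mem hg'
  simp only [not_forall] at hall
  obtain ⟨l, hl, hlV⟩ := hall
  have hlk := mul_mem hl hk
  obtain ⟨v, hv, hy⟩ : ∃ v ∈ vee S F x, cc g (l * k) = cc g l * v := by
    refine ⟨(cc g l)⁻¹ * cc g (l * k), ?_, by group⟩
    rw [show (cc g l)⁻¹ * cc g (l * k) = cc g k * ((cc g l * cc g k)⁻¹ * cc g (l * k)) by group]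
    exact mul_mem hk0 (h.cc_mul E hl hk)
  have hcl := E.cc_mem l hl
  have h1 := h.cc_sq E hlk
  rw [hy, h.ell_mul_left hcl (h.vee_le_nz hv) hlk, h.ell_vee hv hlk, mul_one,
    h.ell_mul_right hcl hl hk, ← h.cc_sq E hl] at h1
  have h2 : cc g l * v * (cc g l * v) = cc g l * cc g l := by
    rw [show cc g l * v * (cc g l * v) = cc g l * (v * cc g l) * v by group, ← h.nz_comm hcl hv,
      show cc g l * (cc g l * v) * v = cc g l * cc g l * (v * v) by group, h.sq v (vee_le_cent hv), mul_one]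
  rw [h2] at h1
  exact hlV (h.mem_vee_of_ell hcl hk hk1 (mul_eq_left.mp h1.symm))

/-- The cocycle separates the elements of the complement modulo the centraliser in the kernel. -/
theorem cc_inj {a b : G} (ha : a ∈ cop Ω S x) (hb : b ∈ cop Ω S x)
    (hab : (cc g a)⁻¹ * cc g b ∈ vee S F x) : a = b := by
  by_contra hne
  refine h.cc_not_vee E (mul_mem (inv_mem ha) hb) (fun e => hne (inv_mul_eq_one.mp e)) ?_
  have e1 : a⁻¹ = a := inv_eq_of_mul_eq_one_left (h.sq _ ha.1)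
  rw [e1]
  have hsqa := h.sq_mem_vee (E.cc_mem a ha)
  rw [show cc g (a * b) = (cc g a * cc g a) * ((cc g a)⁻¹ * cc g b) *
    ((cc g a * cc g b)⁻¹ * cc g (a * b)) by group]
  exact mul_mem (mul_mem hsqa hab) (h.cc_mul E ha hb)

/-- The normaliser has order sixteen. -/
theorem sixteen_le_nz : 16 ≤ Nat.card (nz S F x) := by
  let f : cop Ω S x × vee S F x → nz S F x := fun u =>
    ⟨cc g u.1 * u.2, mul_mem (E.cc_mem _ u.1.2) (h.vee_le_nz u.2.2)⟩
  have hf : Function.Injective f := by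
    rintro ⟨a, v⟩ ⟨b, w⟩ e
    have e' : cc g a * v = cc g b * w := congrArg Subtype.val e
    have hab : a = b := Subtype.ext (h.cc_inj E a.2 b.2 (by
      rw [show (cc g a)⁻¹ * cc g b = (v : G) * (w : G)⁻¹ by
        calc (cc g a)⁻¹ * cc g b = (cc g a)⁻¹ * (cc g b * w) * (w : G)⁻¹ := by group
          _ = _ := by rw [← e']; group]
      exact mul_mem v.2 (inv_mem w.2)))
    subst hab
    exact Prod.ext rfl (Subtype.ext (mul_left_cancel e'))
  have := Nat.card_le_card_of_injective f hf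
  rw [Nat.card_prod, h.cop_card, h.vee_card] at this
  exact this

/-- The cocycle covers the normaliser modulo the centraliser in the kernel. -/
theorem exists_cc {w : G} (hw : w ∈ nz S F x) : ∃ k ∈ cop Ω S x, (cc g k)⁻¹ * w ∈ vee S F x := by
  let f : cop Ω S x → (nz S F x) ⧸ (vee S F x).subgroupOf (nz S F x) :=
    fun k => QuotientGroup.mk ⟨cc g k, E.cc_mem k k.2⟩
  have hf : Function.Injective f := fun a b hab =>
    Subtype.ext (h.cc_inj E a.2 b.2 (mem_subgroupOf.mp (QuotientGroup.eq.mp hab)))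
  have hcard : Nat.card ((nz S F x) ⧸ (vee S F x).subgroupOf (nz S F x)) ≤ 4 := by
    have h1 := LocalEvenB.SelfCentralEight.Sections.relIndex_mul_card
      (show vee S F x ≤ nz S F x from fun v hv => h.vee_le_nz hv)
    rw [h.vee_card] at h1
    have := h.card_nz_le
    show (vee S F x).relIndex (nz S F x) ≤ 4
    omega
  obtain ⟨k, hk⟩ := ((Nat.bijective_iff_injective_and_card f).mpr ⟨hf, le_antisymm
    (Nat.card_le_card_of_injective f hf) (hcard.trans h.cop_card.ge)⟩).2 (QuotientGroup.mk ⟨w, hw⟩)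
  exact ⟨k, k.2, mem_subgroupOf.mp (QuotientGroup.eq.mp hk)⟩

/-- The normaliser has no involution outside the centraliser in the kernel. -/
theorem no_involution {w : G} (hw : w ∈ nz S F x) (hwV : w ∉ vee S F x) : w * w ≠ 1 := by
  intro hww
  obtain ⟨k, hk, hv⟩ := h.exists_cc E hw
  have hk1 : k ≠ 1 := by
    intro e
    rw [e] at hv
    simp [cc] at hv
    exact hwV hv
  set c := cc g k with hc
  have hcc : c * c = 1 := by
    have e : w * w = c * c := by
      calc w * w = c * ((c⁻¹ * w) * c) * (c⁻¹ * w) := by group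
        _ = c * (c * (c⁻¹ * w)) * (c⁻¹ * w) := by rw [h.nz_comm (E.cc_mem k hk) hv]
        _ = c * c * ((c⁻¹ * w) * (c⁻¹ * w)) := by group
        _ = _ := by rw [h.sq _ (vee_le_cent hv), mul_one]
    rw [← e, hww]
  rw [hc, h.cc_sq E hk] at hcc
  exact h.cc_not_vee E hk hk1 (h.mem_vee_of_ell (E.cc_mem k hk) hk hk1 hcc)

end Full

end CfsgLib.Perm.FixityFour
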